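import Mathlib.LinearAlgebra.FreeModule.Basic
import Mathlib.LinearAlgebra.Basis.Basic
import Mathlib.Algebra.Module.LinearMap.End
import Mathlib.Algebra.BigOperators.Intervals
import Mathlib.Algebra.Field.Rat
import Mathlib.Tactic

/-!
# Vanishing of `H¹` of a cyclic group with values in a Kummer-type module

`U` is an abelian group with an automorphism `σ` of order dividing `d`, containing `E = j (ℤ[1/d]/ℤ) ⊕ ℤ π` with
`σ π = π + j (1/d)` and `U/E` uniquely `d`-divisible.  For a lattice `Λ` with automorphism `τ`, `τ ^ d = 1`, every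
`f : Λ → U` of norm zero is of the form `σ h τ - h`.
-/

set_option autoImplicit false

namespace K832.CycVan

open Finset

section ident

variable {X : Type*} [AddCommGroup X] (s : Module.End ℤ X) (d : ℕ)

/-- the norm -/
def nm : Module.End ℤ X := ∑ i ∈ range d, s ^ i

/-- the weighted norm -/
def sw : Module.End ℤ X := ∑ i ∈ range d, i • s ^ i

lemma sw_succ : sw s (d + 1) = sw s d + d • s ^ d := by
  rw [sw, sum_range_succ, ← sw]

lemma nm_succ : nm s (d + 1) = nm s d + s ^ d := by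
  rw [nm, sum_range_succ, ← nm]

lemma mul_sw_sub : s * sw s d - sw s d = d • s ^ d - s * nm s d := by
  induction d with
  | zero => simp [sw, nm]
  | succ d ih =>
    have h1 : s * sw s (d + 1) - sw s (d + 1) = (s * sw s d - sw s d) + (d • s ^ (d + 1) - d • s ^ d) := by
      rw [sw_succ, mul_add, mul_smul_comm, ← pow_succ']
      abel
    rw [h1, ih, nm_succ, mul_add, ← pow_succ', succ_nsmul]
    abel

lemma mul_nm (h : s ^ d = 1) : s * nm s d = nm s d := by
  have h1 : s * nm s d - nm s d = s ^ d - 1 := by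
    have h2 := mul_geom_sum s d
    rw [sub_mul, one_mul] at h2
    exact h2
  rw [h, sub_self, sub_eq_zero] at h1
  exact h1

lemma nm_mul (h : s ^ d = 1) : nm s d * s = nm s d := by
  have h1 : nm s d * s - nm s d = s ^ d - 1 := by
    have h2 := geom_sum_mul s d
    rw [mul_sub, mul_one] at h2
    exact h2
  rw [h, sub_self, sub_eq_zero] at h1
  exact h1

lemma sw_apply (h : s ^ d = 1) (x : X) : s (sw s d x) - sw s d x = (d : ℤ) • x - nm s d x := by
  have h1 := mul_sw_sub s d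
  rw [h, mul_nm s d h] at h1
  have h2 := congrArg (fun (f : Module.End ℤ X) => f x) h1
  simpa using h2

lemma nm_map (h : s ^ d = 1) (x : X) : nm s d (s x) = nm s d x :=
  congrArg (fun (f : Module.End ℤ X) => f x) (nm_mul s d h)

lemma nm_pow (h : s ^ d = 1) (i : ℕ) (x : X) : nm s d ((s ^ i) x) = nm s d x := by
  induction i with
  | zero => simp
  | succ i ih =>
    rw [pow_succ', Module.End.mul_apply, nm_map s d h, ih]

lemma nm_sw (h : s ^ d = 1) (x : X) (hx : nm s d x = 0) : nm s d (sw s d x) = 0 := by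
  rw [sw, LinearMap.sum_apply, map_sum]
  refine sum_eq_zero fun i _ => ?_
  rw [LinearMap.smul_apply, map_nsmul, nm_pow s d h, hx, smul_zero]

lemma nm_nm (h : s ^ d = 1) (x : X) : nm s d (nm s d x) = (d : ℤ) • nm s d x := by
  have h1 : ∀ i, (s ^ i) (nm s d x) = nm s d x := by
    intro i
    induction i with
    | zero => simp
    | succ i ih =>
      rw [pow_succ', Module.End.mul_apply, ih]
      exact congrArg (fun (f : Module.End ℤ X) => f x) (mul_nm s d h)
  have h2 : nm s d (nm s d x) = ∑ i ∈ range d, (s ^ i) (nm s d x) := by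
    conv_lhs => rw [nm, LinearMap.sum_apply]
    rfl
  rw [h2, sum_congr rfl (fun i _ => h1 i), sum_const, card_range]
  simp

end ident

section nat

variable {X Y : Type*} [AddCommGroup X] [AddCommGroup Y] (s : Module.End ℤ X) (t : Module.End ℤ Y)
  (g : X →ₗ[ℤ] Y) (hg : ∀ x, g (s x) = t (g x)) (d : ℕ)

include hg

lemma pow_nat (i : ℕ) (x : X) : g ((s ^ i) x) = (t ^ i) (g x) := by
  induction i with
  | zero => simp
  | succ i ih => rw [pow_succ', pow_succ', Module.End.mul_apply, Module.End.mul_apply, hg, ih]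

lemma nm_nat (x : X) : g (nm s d x) = nm t d (g x) := by
  rw [nm, nm, LinearMap.sum_apply, LinearMap.sum_apply, map_sum]
  exact sum_congr rfl fun i _ => pow_nat s t g hg i x

lemma sw_nat (x : X) : g (sw s d x) = sw t d (g x) := by
  rw [sw, sw, LinearMap.sum_apply, LinearMap.sum_apply, map_sum]
  refine sum_congr rfl fun i _ => ?_
  rw [LinearMap.smul_apply, LinearMap.smul_apply, map_nsmul, pow_nat s t g hg]

end nat

/-- The Kummer-type structure. -/
structure Kum (d : ℕ) (U : Type*) [AddCommGroup U] (σ : Module.End ℤ U) (V : Type*) [AddCommGroup V]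
    (dv : V →ₗ[ℤ] V) (e : V) (j : V →ₗ[ℤ] U) (π : U) : Prop where
  dv_right : ∀ v, (d : ℤ) • dv v = v
  dv_left : ∀ v, dv ((d : ℤ) • v) = v
  e_inj : ∀ n : ℤ, n • e = 0 → n = 0
  j_ker : ∀ v, j v = 0 → ∃ n : ℤ, v = n • e
  σ_j : ∀ v, σ (j v) = j v
  σ_π : σ π = π + j (dv e)
  indep : ∀ (v : V) (n : ℤ), j v + n • π = 0 → n = 0
  exists_div : ∀ x : U, ∃ (y : U) (v : V) (n : ℤ), x = (d : ℤ) • y + (j v + n • π)
  of_div : ∀ (y : U) (v : V) (n : ℤ), (d : ℤ) • y = j v + n • π → ∃ (v' : V) (n' : ℤ), y = j v' + n' • π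

section main

variable {d : ℕ} {U : Type*} [AddCommGroup U] {σ : Module.End ℤ U} {V : Type*} [AddCommGroup V]
    {dv : V →ₗ[ℤ] V} {e : V} {j : V →ₗ[ℤ] U} {π : U} (K : Kum d U σ V dv e j π)
    {Λ : Type*} [AddCommGroup Λ] (τ : Module.End ℤ Λ)

/-- precomposition -/
abbrev pre (W : Type*) [AddCommGroup W] : Module.End ℤ (Λ →ₗ[ℤ] W) := LinearMap.lcomp ℤ W τ

lemma pre_apply (W : Type*) [AddCommGroup W] (φ : Λ →ₗ[ℤ] W) (m : Λ) : pre τ W φ m = φ (τ m) := rfl

lemma pre_pow_apply (W : Type*) [AddCommGroup W] (φ : Λ →ₗ[ℤ] W) (i : ℕ) (m : Λ) :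
    (pre τ W ^ i) φ m = φ ((τ ^ i) m) := by
  induction i generalizing φ with
  | zero => simp
  | succ i ih =>
    rw [pow_succ, Module.End.mul_apply, ih, pre_apply, pow_succ', Module.End.mul_apply]

lemma pre_pow_eq_one (W : Type*) [AddCommGroup W] (hτ : τ ^ d = 1) : pre τ W ^ d = 1 := by
  ext φ m
  rw [pre_pow_apply, hτ]
  rfl

variable (σ) in
/-- the twisted action -/
def tw : Module.End ℤ (Λ →ₗ[ℤ] U) := (LinearMap.llcomp ℤ Λ U U σ) ∘ₗ pre τ U

lemma tw_apply (φ : Λ →ₗ[ℤ] U) (m : Λ) : tw σ τ φ m = σ (φ (τ m)) := rfl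

lemma tw_pow_apply (φ : Λ →ₗ[ℤ] U) (i : ℕ) (m : Λ) : (tw σ τ ^ i) φ m = (σ ^ i) (φ ((τ ^ i) m)) := by
  induction i generalizing φ with
  | zero => simp
  | succ i ih =>
    rw [pow_succ, Module.End.mul_apply, ih, tw_apply, pow_succ, Module.End.mul_apply, pow_succ',
      Module.End.mul_apply]

include K

lemma σ_pow_π (i : ℕ) : (σ ^ i) π = π + i • j (dv e) := by
  induction i with
  | zero => simp
  | succ i ih =>
    rw [pow_succ', Module.End.mul_apply, ih, map_add, K.σ_π, map_nsmul, K.σ_j, succ_nsmul]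
    abel

lemma σ_pow_j (i : ℕ) (v : V) : (σ ^ i) (j v) = j v := by
  induction i with
  | zero => simp
  | succ i ih => rw [pow_succ', Module.End.mul_apply, ih, K.σ_j]

/-- The case of values in `E`. -/
theorem exists_of_E (hτ : τ ^ d = 1) (a : Λ →ₗ[ℤ] V) (β : Λ →ₗ[ℤ] ℤ) (f : Λ →ₗ[ℤ] U)
    (hf : ∀ m, f m = j (a m) + β m • π) (h0 : nm (tw σ τ) d f = 0) :
    ∃ h : Λ →ₗ[ℤ] U, ∀ m, f m = σ (h (τ m)) - h m := by
  let βe : Λ →ₗ[ℤ] V := (LinearMap.toSpanSingleton ℤ V e) ∘ₗ β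
  have hβe : ∀ m, βe m = β m • e := fun m => rfl
  have h1 : ∀ m, j (nm (pre τ V) d a m + dv (sw (pre τ V) d βe m)) + (nm (pre τ ℤ) d β m) • π = 0 := by
    intro m
    have h2 := congrArg (fun φ : Λ →ₗ[ℤ] U => φ m) h0
    beta_reduce at h2
    rw [LinearMap.zero_apply] at h2
    rw [← h2, nm, nm, nm, sw]
    simp only [LinearMap.sum_apply, LinearMap.smul_apply, map_sum, map_add, map_nsmul, sum_smul,
      tw_pow_apply, pre_pow_apply, hf, hβe]
    rw [← sum_add_distrib, ← sum_add_distrib]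
    refine sum_congr rfl fun i _ => ?_
    rw [σ_pow_j K, map_zsmul (σ ^ i), σ_pow_π K, map_zsmul dv, map_zsmul j, smul_add,
      smul_comm (β ((τ ^ i) m)) i]
    abel
  have hβ : nm (pre τ ℤ) d β = 0 := by
    ext m
    exact K.indep _ _ (h1 m)
  have h2 : ∀ m, ∃ n : ℤ, nm (pre τ V) d a m + dv (sw (pre τ V) d βe m) = n • e := by
    intro m
    apply K.j_ker
    have := h1 m
    rwa [hβ, LinearMap.zero_apply, zero_smul, add_zero] at this
  choose l₀ hl₀ using h2
  have einj : ∀ n n' : ℤ, n • e = n' • e → n = n' := by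
    intro n n' h
    rw [← sub_eq_zero]
    apply K.e_inj
    rw [sub_smul, h, sub_self]
  let l : Λ →ₗ[ℤ] ℤ :=
    { toFun := l₀
      map_add' := fun m m' => einj _ _ (by
        rw [add_smul, ← hl₀, ← hl₀, ← hl₀, map_add, map_add, map_add]
        abel)
      map_smul' := fun n m => einj _ _ (by
        rw [RingHom.id_apply, smul_assoc, ← hl₀, ← hl₀, map_smul, map_smul, map_smul, smul_add]) }
  let le : Λ →ₗ[ℤ] V := (LinearMap.toSpanSingleton ℤ V e) ∘ₗ l
  have hle : ∀ m, le m = l m • e := fun m => rfl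
  have hle' : le = nm (pre τ V) d a + dv ∘ₗ (sw (pre τ V) d βe) := by
    ext m
    exact (hl₀ m).symm
  have hp := pre_pow_eq_one (d := d) τ V hτ
  have hpz := pre_pow_eq_one (d := d) τ ℤ hτ
  have hdv : ∀ φ : Λ →ₗ[ℤ] V, (LinearMap.llcomp ℤ Λ V V dv) (pre τ V φ) =
      pre τ V (LinearMap.llcomp ℤ Λ V V dv φ) := fun _ => rfl
  have hnβe : nm (pre τ V) d βe = 0 := by
    have h3 := nm_nat (pre τ ℤ) (pre τ V) (LinearMap.llcomp ℤ Λ ℤ V (LinearMap.toSpanSingleton ℤ V e))
      (fun _ => rfl) d β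
    rw [hβ, map_zero] at h3
    exact h3.symm
  have h3 : ∀ m, l (τ m) - l m = β m := by
    intro m
    apply einj
    have h4 : pre τ V le - le = βe := by
      rw [hle', map_add]
      have h5 := sw_apply (pre τ V) d hp βe
      rw [hnβe, sub_zero] at h5
      have h6 : pre τ V (nm (pre τ V) d a) = nm (pre τ V) d a :=
        congrArg (fun (f : Module.End ℤ (Λ →ₗ[ℤ] V)) => f a) (mul_nm (pre τ V) d hp)
      have h7 : pre τ V (dv ∘ₗ (sw (pre τ V) d βe)) - dv ∘ₗ (sw (pre τ V) d βe) = βe := by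
        have h8 : pre τ V (dv ∘ₗ (sw (pre τ V) d βe)) - dv ∘ₗ (sw (pre τ V) d βe) =
            dv ∘ₗ (pre τ V (sw (pre τ V) d βe) - sw (pre τ V) d βe) := by
          rw [LinearMap.comp_sub]
          rfl
        rw [h8, h5]
        ext m
        exact K.dv_left (βe m)
      rw [h6, add_sub_add_left_eq_sub, h7]
    have h5 := congrArg (fun φ : Λ →ₗ[ℤ] V => φ m) h4
    rw [sub_smul]
    exact h5
  let a' : Λ →ₗ[ℤ] V := a - dv ∘ₗ (pre τ V le)
  have ha' : nm (pre τ V) d a' = 0 := by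
    have h4 := nm_nat (pre τ V) (pre τ V) (LinearMap.llcomp ℤ Λ V V dv) hdv d (pre τ V le)
    have h5 : nm (pre τ V) d (sw (pre τ V) d βe) = 0 := nm_sw _ d hp _ hnβe
    have h6 := nm_nat (pre τ V) (pre τ V) (LinearMap.llcomp ℤ Λ V V dv) hdv d (sw (pre τ V) d βe)
    rw [h5, map_zero] at h6
    have h7 : nm (pre τ V) d le = (d : ℤ) • nm (pre τ V) d a := by
      rw [hle', map_add, nm_nm _ d hp]
      have : nm (pre τ V) d (dv ∘ₗ (sw (pre τ V) d βe)) = 0 := h6.symm
      rw [this, add_zero]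
    rw [nm_map _ d hp, h7] at h4
    have h8 : nm (pre τ V) d a' = nm (pre τ V) d a -
        nm (pre τ V) d (LinearMap.llcomp ℤ Λ V V dv (pre τ V le)) := map_sub _ _ _
    rw [h8, ← h4]
    ext m
    change nm (pre τ V) d a m - dv ((d : ℤ) • nm (pre τ V) d a m) = 0
    rw [K.dv_left, sub_self]
  let c : Λ →ₗ[ℤ] V := dv ∘ₗ (sw (pre τ V) d a')
  have hc : ∀ m, c (τ m) - c m = a' m := by
    intro m
    have h4 := congrArg (fun φ : Λ →ₗ[ℤ] V => dv (φ m)) (sw_apply (pre τ V) d hp a')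
    beta_reduce at h4
    rw [ha', sub_zero, LinearMap.smul_apply, K.dv_left, LinearMap.sub_apply, map_sub] at h4
    exact h4
  refine ⟨(LinearMap.toSpanSingleton ℤ U π) ∘ₗ l + j ∘ₗ c, fun m => ?_⟩
  change f m = σ (l (τ m) • π + j (c (τ m))) - (l m • π + j (c m))
  rw [map_add, K.σ_j, map_zsmul, K.σ_π, hf]
  have h4 : a m = a' m + dv (l (τ m) • e) := by
    change a m = (a m - dv (l (τ m) • e)) + dv (l (τ m) • e)
    rw [sub_add_cancel]
  have h5 : β m = l (τ m) - l m := (h3 m).symm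
  rw [h4, ← hc, h5, map_add, map_sub, map_zsmul, map_zsmul, sub_smul, smul_add]
  abel

/-- **Norm-zero characters are coboundaries.** -/
theorem exists_of_nm [Module.Free ℤ Λ] (hτ : τ ^ d = 1) (hσ : σ ^ d = 1) (f : Λ →ₗ[ℤ] U)
    (h0 : nm (tw σ τ) d f = 0) :
    ∃ h : Λ →ₗ[ℤ] U, ∀ m, f m = σ (h (τ m)) - h m := by
  have htw : tw σ τ ^ d = 1 := by
    ext φ m
    rw [tw_pow_apply, hσ, hτ]
    rfl
  let bs := Module.Free.chooseBasis ℤ Λ
  -- divide the weighted norm
  choose y₀ v₀ n₀ hy₀ using K.exists_div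
  let F := sw (tw σ τ) d f
  let y : Λ →ₗ[ℤ] U := bs.constr ℤ fun i => y₀ (F (bs i))
  let E : Submodule ℤ U := LinearMap.range (j.coprod (LinearMap.toSpanSingleton ℤ U π))
  have hE : ∀ x, x ∈ E ↔ ∃ (v : V) (n : ℤ), x = j v + n • π := by
    intro x
    constructor
    · rintro ⟨⟨v, n⟩, rfl⟩
      exact ⟨v, n, rfl⟩
    · rintro ⟨v, n, rfl⟩
      exact ⟨(v, n), rfl⟩
  have hEd : ∀ x, (d : ℤ) • x ∈ E → x ∈ E := by
    intro x hx
    rw [hE] at hx ⊢
    obtain ⟨v, n, h⟩ := hx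
    exact K.of_div x v n h
  have hEσ : ∀ x ∈ E, σ x ∈ E := by
    intro x hx
    rw [hE] at hx ⊢
    obtain ⟨v, n, rfl⟩ := hx
    refine ⟨v + n • dv e, n, ?_⟩
    rw [map_add, K.σ_j, map_zsmul, K.σ_π, map_add, map_zsmul, smul_add]
    abel
  have hFy : ∀ m, F m - (d : ℤ) • y m ∈ E := by
    have h1 : (E.mkQ ∘ₗ (F - (d : ℤ) • y)) = 0 := by
      apply bs.ext
      intro i
      rw [LinearMap.zero_apply, LinearMap.comp_apply, Submodule.mkQ_apply, Submodule.Quotient.mk_eq_zero,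
        hE]
      refine ⟨v₀ (F (bs i)), n₀ (F (bs i)), ?_⟩
      have h2 : y (bs i) = y₀ (F (bs i)) := bs.constr_basis ℤ _ i
      rw [LinearMap.sub_apply, LinearMap.smul_apply, h2, sub_eq_iff_eq_add', ← hy₀]
    intro m
    have h2 := congrArg (fun φ : Λ →ₗ[ℤ] _ => φ m) h1
    beta_reduce at h2
    rw [LinearMap.zero_apply, LinearMap.comp_apply, Submodule.mkQ_apply,
      Submodule.Quotient.mk_eq_zero] at h2
    exact h2
  let f' : Λ →ₗ[ℤ] U := f - (tw σ τ y - y)
  have hf' : ∀ m, f' m ∈ E := by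
    intro m
    apply hEd
    have h1 := congrArg (fun φ : Λ →ₗ[ℤ] U => φ m) (sw_apply (tw σ τ) d htw f)
    beta_reduce at h1
    rw [h0, sub_zero, LinearMap.smul_apply, LinearMap.sub_apply, tw_apply] at h1
    have h2 : (d : ℤ) • f' m = σ (F (τ m) - (d : ℤ) • y (τ m)) - (F m - (d : ℤ) • y m) := by
      change (d : ℤ) • (f m - (σ (y (τ m)) - y m)) = _
      rw [smul_sub, ← h1, smul_sub, map_sub, map_zsmul]
      change σ (F (τ m)) - F m - _ = _
      abel
    rw [h2]
    exact E.sub_mem (hEσ _ (hFy _)) (hFy m)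
  choose v n hvn using fun i => (hE _).1 (hf' (bs i))
  let a : Λ →ₗ[ℤ] V := bs.constr ℤ v
  let β : Λ →ₗ[ℤ] ℤ := bs.constr ℤ n
  have h1 : ∀ m, f' m = j (a m) + β m • π := by
    have h2 : f' = j ∘ₗ a + (LinearMap.toSpanSingleton ℤ U π) ∘ₗ β := by
      apply bs.ext
      intro i
      have h3 : a (bs i) = v i := bs.constr_basis ℤ _ i
      have h4 : β (bs i) = n i := bs.constr_basis ℤ _ i
      change f' (bs i) = j (a (bs i)) + β (bs i) • π
      rw [h3, h4, hvn]
    intro m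
    rw [h2]
    rfl
  obtain ⟨h, hh⟩ := exists_of_E K τ hτ a β f' h1 (by
    rw [map_sub, map_sub, nm_map _ d htw, h0, sub_self, sub_zero])
  refine ⟨h + y, fun m => ?_⟩
  have h2 : f m = f' m + (σ (y (τ m)) - y m) := by
    change f m = (f m - (σ (y (τ m)) - y m)) + (σ (y (τ m)) - y m)
    abel
  rw [h2, hh, LinearMap.add_apply, LinearMap.add_apply, map_add]
  abel

end main

end K832.CycVan
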