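import Mathlib.RingTheory.Henselian
import Mathlib.FieldTheory.IsSepClosed
import Mathlib.RingTheory.RootsOfUnity.PrimitiveRoots
import Mathlib.RingTheory.RootsOfUnity.AlgebraicallyClosed
import Mathlib.RingTheory.PowerSeries.Basic
import Mathlib.RingTheory.AdicCompletion.Completeness
import Mathlib.RingTheory.LocalRing.ResidueField.Basic

/-!
# Roots of units in strictly henselian rings and in power series rings
-/

set_option autoImplicit false
universe u

open Polynomial IsLocalRing

namespace K832.KumRoots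

section local_

variable {R : Type u} [CommRing R] [HenselianLocalRing R] {d : ℕ} (hd : IsUnit (d : R))

include hd

lemma ne_zero : d ≠ 0 := by
  rintro rfl
  rw [Nat.cast_zero] at hd
  exact not_isUnit_zero hd

/-- lifting of roots -/
theorem exists_lift (u : Rˣ) (z : ResidueField R) (hz : z ^ d = residue R u) :
    ∃ v : Rˣ, v ^ d = u ∧ residue R v = z := by
  have h0 := ne_zero hd
  obtain ⟨a₀, rfl⟩ := residue_surjective z
  have ha₀ : IsUnit a₀ := by
    have h1 : residue R a₀ ≠ 0 := by
      intro h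
      rw [h, zero_pow h0] at hz
      have h2 := (u.isUnit.map (residue R))
      rw [← hz] at h2
      exact not_isUnit_zero h2
    exact (residue_ne_zero_iff_isUnit a₀).1 h1
  obtain ⟨a, h1, h2⟩ := HenselianLocalRing.is_henselian (X ^ d - C (u : R)) (monic_X_pow_sub_C _ h0) a₀
    (by
      rw [eval_sub, eval_pow, eval_X, eval_C, ← residue_eq_zero_iff, map_sub, map_pow, hz, sub_self])
    (by
      rw [derivative_sub, derivative_X_pow, derivative_C, sub_zero, eval_mul, eval_C, eval_pow, eval_X]
      exact hd.mul (ha₀.pow _))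
  rw [IsRoot.def, eval_sub, eval_pow, eval_X, eval_C, sub_eq_zero] at h1
  have ha : IsUnit a := by
    have h3 : IsUnit (a ^ d) := h1 ▸ u.isUnit
    exact (isUnit_pow_iff h0).1 h3
  refine ⟨ha.unit, Units.ext (by simpa using h1), ?_⟩
  rw [IsUnit.unit_spec, ← sub_eq_zero, ← map_sub, residue_eq_zero_iff]
  exact h2

lemma residue_ne_zero : (d : ResidueField R) ≠ 0 := by
  have h1 := hd.map (residue R)
  rw [map_natCast] at h1
  exact h1.ne_zero

theorem exists_root [IsSepClosed (ResidueField R)] (u : Rˣ) : ∃ v : Rˣ, v ^ d = u := by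
  have : NeZero (d : ResidueField R) := ⟨residue_ne_zero hd⟩
  obtain ⟨z, hz⟩ := IsSepClosed.exists_pow_nat_eq (residue R (u : R)) d
  obtain ⟨v, hv, -⟩ := exists_lift hd u z hz
  exact ⟨v, hv⟩

/-- A unit congruent to one with trivial power is one. -/
theorem eq_one_of_pow (y : Rˣ) (hy : y ^ d = 1) (h1 : residue R (y : R) = 1) : y = 1 := by
  have h2 : ((y : R) - 1) * ∑ i ∈ Finset.range d, (y : R) ^ i = 0 := by
    rw [mul_geom_sum]
    have := congrArg (fun z : Rˣ => (z : R)) hy
    simpa [sub_eq_zero] using this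
  have h3 : IsUnit (∑ i ∈ Finset.range d, (y : R) ^ i) := by
    rw [← residue_ne_zero_iff_isUnit]
    simp only [map_sum, map_pow, h1, one_pow, Finset.sum_const, Finset.card_range]
    rw [nsmul_one]
    exact residue_ne_zero hd
  have h4 := (h3.mul_left_eq_zero).1 h2
  exact Units.ext (sub_eq_zero.1 h4)

/-- Primitive roots of unity. -/
theorem exists_primitive [IsSepClosed (ResidueField R)] :
    ∃ ζ : Rˣ, ζ ^ d = 1 ∧ (∀ i : ℤ, ¬ (d : ℤ) ∣ i → IsUnit (((ζ ^ i : Rˣ) : R) - 1)) ∧
      ∀ x : Rˣ, x ^ d = 1 → ∃ i : ℤ, x = ζ ^ i := by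
  have h0 := ne_zero hd
  have : NeZero d := ⟨h0⟩
  have : NeZero (d : ResidueField R) := ⟨residue_ne_zero hd⟩
  obtain ⟨z, hz⟩ := HasEnoughRootsOfUnity.exists_primitiveRoot (ResidueField R) d
  obtain ⟨ζ, hζ, hζz⟩ := exists_lift hd 1 z (by rw [Units.val_one, map_one, hz.pow_eq_one])
  have hres : ∀ i : ℤ, residue R ((ζ ^ i : Rˣ) : R) = z ^ i := by
    intro i
    have h1 : ((Units.map (residue R : R →* ResidueField R) (ζ ^ i) : (ResidueField R)ˣ) :
        ResidueField R) = z ^ i := by
      rw [map_zpow, Units.val_zpow_eq_zpow_val]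
      congr 1
    exact h1
  refine ⟨ζ, hζ, ?_, ?_⟩
  · intro i hi
    rw [← residue_ne_zero_iff_isUnit, map_sub, map_one, hres, sub_ne_zero]
    intro h
    exact hi ((hz.zpow_eq_one_iff_dvd i).1 h)
  · intro x hx
    have h1 : (residue R (x : R)) ^ d = 1 := by
      rw [← map_pow, ← Units.val_pow_eq_pow_val, hx, Units.val_one, map_one]
    obtain ⟨i, -, hi⟩ := hz.eq_pow_of_pow_eq_one h1
    refine ⟨i, ?_⟩
    have h2 : x * (ζ ^ (i : ℤ))⁻¹ = 1 := by
      apply eq_one_of_pow hd
      · rw [mul_pow, hx, one_mul, inv_pow, zpow_natCast, ← pow_mul, mul_comm i d, pow_mul, hζ, one_pow,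
          inv_one]
      · have h3 : (ζ ^ (i : ℤ))⁻¹ = ζ ^ (-(i : ℤ)) := (zpow_neg _ _).symm
        rw [h3, Units.val_mul, map_mul, hres, ← hi, zpow_neg, zpow_natCast, mul_inv_cancel₀]
        exact pow_ne_zero _ (hz.ne_zero h0)
    exact mul_inv_eq_one.1 h2

end local_

section power

variable {R : Type u} [CommRing R] {d : ℕ} (hd : IsUnit (d : R))

open PowerSeries

include hd

/-- Roots of power series with constant coefficient one. -/
theorem exists_root_power [Nontrivial R] (w : PowerSeries R) (hw : PowerSeries.constantCoeff w = 1) :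
    ∃ v : PowerSeries R, v ^ d = w ∧ PowerSeries.constantCoeff v = 1 := by
  have h0 : d ≠ 0 := by
    rintro rfl
    rw [Nat.cast_zero] at hd
    exact not_isUnit_zero hd
  have hmem : ∀ x : PowerSeries R, x ∈ Ideal.span {(PowerSeries.X : PowerSeries R)} ↔
      PowerSeries.constantCoeff x = 0 := by
    intro x
    rw [Ideal.mem_span_singleton, PowerSeries.X_dvd_iff]
  have hdu : IsUnit (d : PowerSeries R) := by
    have := hd.map (PowerSeries.C (R := R))
    rwa [map_natCast] at this
  obtain ⟨a, h1, h2⟩ := HenselianRing.is_henselian (I := Ideal.span {(PowerSeries.X : PowerSeries R)})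
    (Polynomial.X ^ d - Polynomial.C w) (monic_X_pow_sub_C _ h0) 1
    (by
      rw [eval_sub, eval_pow, eval_X, eval_C, hmem, map_sub, map_pow, map_one, hw, one_pow, sub_self])
    (by
      rw [derivative_sub, derivative_X_pow, derivative_C, sub_zero, eval_mul, eval_C, eval_pow, eval_X,
        one_pow, mul_one]
      exact hdu.map _)
  rw [IsRoot.def, eval_sub, eval_pow, eval_X, eval_C, sub_eq_zero] at h1
  refine ⟨a, h1, ?_⟩
  rw [hmem, map_sub, map_one, sub_eq_zero] at h2
  exact h2

/-- Uniqueness of roots of one with constant coefficient one. -/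
theorem eq_one_of_pow_power (w : PowerSeries R) (hw : PowerSeries.constantCoeff w = 1)
    (h : w ^ d = 1) : w = 1 := by
  have h2 : (w - 1) * ∑ i ∈ Finset.range d, w ^ i = 0 := by
    rw [mul_geom_sum, h, sub_self]
  have h3 : IsUnit (∑ i ∈ Finset.range d, w ^ i) := by
    rw [PowerSeries.isUnit_iff_constantCoeff, map_sum]
    simp only [map_pow, hw, one_pow, Finset.sum_const, Finset.card_range]
    rw [nsmul_one]
    exact hd
  exact sub_eq_zero.1 ((h3.mul_left_eq_zero).1 h2)

end power

end K832.KumRoots
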