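import Groth.Agent.NonAbH1.K832.KumRoots
import Groth.Agent.MultTori.K965.IsGal
import Groth.Agent.CalgB.PopEnlarge
import Mathlib.RingTheory.LaurentSeries
import Mathlib.LinearAlgebra.Basis.Basic

/-!
# The Galois extension `R((t)) → R((u))`, `t = u ^ d`
-/

set_option autoImplicit false
universe u

open Polynomial

namespace K832.LaurGal

/-- The data: a root of unity `ζ` of order `d`, `d` invertible. -/
structure Par (R : Type u) [CommRing R] (d : ℕ) where
  /-- the root of unity -/
  ζ : Rˣ
  pow_eq : ζ ^ d = 1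
  isUnit_sub : ∀ i : ℤ, ¬ (d : ℤ) ∣ i → IsUnit (((ζ ^ i : Rˣ) : R) - 1)
  pos : 0 < d
  isUnit_d : IsUnit (d : R)

variable {R : Type u} [CommRing R] {d : ℕ} (p : Par R d)

/-- The Laurent series ring as an algebra over itself through `t ↦ t ^ d`. -/
def LB {R : Type u} [CommRing R] {d : ℕ} (_ : Par R d) : Type u := LaurentSeries R

noncomputable instance : CommRing (LB p) := inferInstanceAs (CommRing (LaurentSeries R))

variable {p}

/-- coefficients -/
def cf (f : LB p) (n : ℤ) : R := HahnSeries.coeff (Γ := ℤ) f n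

lemma cf_ext {f g : LB p} (h : ∀ n, cf f n = cf g n) : f = g := HahnSeries.ext (funext h)

@[simp] lemma cf_zero (n : ℤ) : cf (0 : LB p) n = 0 := rfl

lemma cf_add (f g : LB p) (n : ℤ) : cf (f + g) n = cf f n + cf g n := rfl

lemma cf_sum {ι : Type*} (s : Finset ι) (f : ι → LB p) (n : ℤ) : cf (∑ i ∈ s, f i) n = ∑ i ∈ s, cf (f i) n := by
  classical
  induction s using Finset.induction_on with
  | empty => simp
  | insert a s ha ih => rw [Finset.sum_insert ha, Finset.sum_insert ha, cf_add, ih]

lemma cf_one_zero : cf (1 : LB p) 0 = 1 := HahnSeries.coeff_single_same _ _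

lemma cf_one_of_ne {n : ℤ} (hn : n ≠ 0) : cf (1 : LB p) n = 0 := HahnSeries.coeff_single_of_ne hn

variable (p)

/-- The substitution map. -/
noncomputable def sub : LaurentSeries R →+* LB p :=
  HahnSeries.embDomainRingHom (R := R) (AddMonoidHom.mulLeft (d : ℤ))
    (by
      intro x y h
      have h' : (d : ℤ) * x = d * y := h
      exact mul_left_cancel₀ (by exact_mod_cast p.pos.ne') h')
    (by
      intro x y
      change (d : ℤ) * x ≤ d * y ↔ x ≤ y
      exact mul_le_mul_iff_right₀ (by exact_mod_cast p.pos))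

noncomputable instance : Algebra (LaurentSeries R) (LB p) := (sub p).toAlgebra

lemma algebraMap_eq : algebraMap (LaurentSeries R) (LB p) = sub p := rfl

lemma cf_sub (f : LaurentSeries R) (n : ℤ) : cf (sub p f) (d * n) = f.coeff n := by
  unfold cf sub
  exact HahnSeries.embDomain_coeff

lemma cf_sub_of_not_dvd (f : LaurentSeries R) (n : ℤ) (hn : ¬ (d : ℤ) ∣ n) :
    cf (sub p f) n = 0 := by
  unfold cf sub
  refine HahnSeries.embDomain_of_notMem_range ?_
  rintro ⟨m, hm⟩
  exact hn ⟨m, hm.symm⟩

/-- the uniformizer powers -/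
noncomputable def pw (n : ℤ) : LB p := HahnSeries.single n (1 : R)

lemma pw_add (m n : ℤ) : pw p (m + n) = pw p m * pw p n := by
  unfold pw
  exact (HahnSeries.single_mul_single.trans (by rw [one_mul])).symm

lemma pw_zero : pw p 0 = 1 := rfl

variable {p} in
lemma cf_mul_pw (f : LB p) (n m : ℤ) : cf (f * pw p n) m = cf f (m - n) := by
  unfold cf pw
  exact (HahnSeries.coeff_mul_single (R := R) (Γ' := ℤ)).trans (mul_one _)

lemma cf_pw (n : ℤ) : cf (pw p n) n = 1 := HahnSeries.coeff_single_same _ _

lemma cf_pw_of_ne {n m : ℤ} (h : m ≠ n) : cf (pw p n) m = 0 := HahnSeries.coeff_single_of_ne h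

/-- the uniformizer of the base -/
noncomputable def tt : (LaurentSeries R)ˣ where
  val := HahnSeries.single 1 (1 : R)
  inv := HahnSeries.single (-1) (1 : R)
  val_inv := by
    rw [HahnSeries.single_mul_single]
    simp
  inv_val := by
    rw [HahnSeries.single_mul_single]
    simp

lemma sub_single (n : ℤ) : sub p (HahnSeries.single n (1 : R)) = pw p (d * n) :=
  HahnSeries.embDomain_single

lemma pw_pow (n : ℤ) (k : ℕ) : pw p n ^ k = pw p (k * n) := by
  induction k with
  | zero => simp [pw_zero]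
  | succ k ih => rw [pow_succ, ih, ← pw_add]; congr 1; push_cast; ring

section comp

variable {p}

/-- The components. -/
noncomputable def comp (f : LB p) (i : ℤ) : LaurentSeries R :=
  HahnSeries.ofSuppBddBelow (fun n => cf f (d * n + i)) (by
    refine ⟨-|HahnSeries.order (Γ := ℤ) f - i|, fun n hn => ?_⟩
    by_contra h
    rw [not_le] at h
    apply hn
    refine HahnSeries.coeff_eq_zero_of_lt_order ?_
    have hd1 : (1 : ℤ) ≤ d := by exact_mod_cast p.pos
    have h1 : (d : ℤ) * n ≤ n := by nlinarith [abs_nonneg (HahnSeries.order (Γ := ℤ) f - i)]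
    have h2 := neg_abs_le (HahnSeries.order (Γ := ℤ) f - i)
    change (d : ℤ) * n + i < HahnSeries.order (Γ := ℤ) f
    linarith)

lemma coeff_comp (f : LB p) (i n : ℤ) : (comp f i).coeff n = cf f (d * n + i) := rfl

include p in
lemma dpos : (0 : ℤ) < d := by exact_mod_cast p.pos

lemma cf_lin (a : ℕ → LaurentSeries R) (m : ℤ) :
    cf (∑ i ∈ Finset.range d, sub p (a i) * pw p i) m = (a (m % d).toNat).coeff (m / d) := by
  have hd := dpos (p := p)
  have h1 : 0 ≤ m % d := Int.emod_nonneg _ hd.ne'
  have h2 : m % d < d := Int.emod_lt_of_pos _ hd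
  have h3 : ((m % d).toNat : ℤ) = m % d := Int.toNat_of_nonneg h1
  rw [cf_sum, Finset.sum_eq_single (m % d).toNat]
  · rw [cf_mul_pw, h3]
    have h4 : m - m % d = d * (m / d) := by
      have := Int.mul_ediv_add_emod m d
      linarith
    rw [h4, cf_sub]
  · intro i hi hne
    rw [cf_mul_pw]
    apply cf_sub_of_not_dvd
    intro h
    apply hne
    have h4 : m % d = (i : ℤ) % d := ((Int.modEq_iff_dvd).2 h).symm
    rw [h4, Int.emod_eq_of_lt (by positivity) (by exact_mod_cast Finset.mem_range.1 hi)]
    simp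
  · intro h
    exact absurd (Finset.mem_range.2 (by omega)) h

lemma decomp (f : LB p) : f = ∑ i ∈ Finset.range d, sub p (comp f i) * pw p i := by
  apply cf_ext
  intro m
  rw [cf_lin, coeff_comp]
  have h1 : 0 ≤ m % d := Int.emod_nonneg _ (dpos (p := p)).ne'
  rw [Int.toNat_of_nonneg h1, Int.mul_ediv_add_emod]

end comp

/-- The linear combination map. -/
noncomputable def lin : (Fin d → LaurentSeries R) →ₗ[LaurentSeries R] LB p :=
  Fintype.linearCombination (LaurentSeries R) (fun i : Fin d => pw p i)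

lemma lin_apply (a : Fin d → LaurentSeries R) : lin p a = ∑ i : Fin d, sub p (a i) * pw p i := by
  unfold lin
  rw [Fintype.linearCombination_apply]
  rfl

lemma lin_apply' (a : ℕ → LaurentSeries R) :
    lin p (fun i => a i) = ∑ i ∈ Finset.range d, sub p (a i) * pw p i := by
  rw [lin_apply, Finset.sum_range]

lemma lin_bijective : Function.Bijective (lin p) := by
  constructor
  · rw [injective_iff_map_eq_zero]
    intro a ha
    let a' : ℕ → LaurentSeries R := fun i => if h : i < d then a ⟨i, h⟩ else 0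
    have h1 : a = fun i : Fin d => a' i := by
      ext1 i
      simp [a']
    rw [h1, lin_apply'] at ha
    ext1 i
    rw [h1]
    apply HahnSeries.ext
    ext n
    have h2 := cf_lin (p := p) a' (d * n + i)
    rw [ha, cf_zero] at h2
    have h3 : ((d : ℤ) * n + i) % d = i := by
      rw [Int.add_comm, Int.add_mul_emod_self_left, Int.emod_eq_of_lt (by positivity)
        (by exact_mod_cast i.2)]
    have h4 : ((d : ℤ) * n + i) / d = n := by
      rw [Int.add_comm, Int.add_mul_ediv_left _ _ (dpos (p := p)).ne',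
        Int.ediv_eq_zero_of_lt (by positivity) (by exact_mod_cast i.2), zero_add]
    rw [h3, h4, Int.toNat_natCast] at h2
    exact h2.symm
  · intro f
    refine ⟨fun i => comp f i, ?_⟩
    rw [lin_apply' p (fun i => comp f i), ← decomp]

/-- The basis. -/
noncomputable def bas : Module.Basis (Fin d) (LaurentSeries R) (LB p) :=
  Module.Basis.ofEquivFun (LinearEquiv.ofBijective (lin p) (lin_bijective p)).symm

lemma bas_apply (i : Fin d) : bas p i = pw p i := by
  unfold bas
  rw [Module.Basis.coe_ofEquivFun]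
  change lin p (Pi.single i 1) = _
  unfold lin
  rw [Fintype.linearCombination_apply_single, one_smul]

instance : Module.Free (LaurentSeries R) (LB p) := Module.Free.of_basis (bas p)

instance : Module.Finite (LaurentSeries R) (LB p) := Module.Finite.of_basis (bas p)

instance [Nontrivial R] : Nontrivial (LB p) := inferInstanceAs (Nontrivial (LaurentSeries R))

/-- The polynomial. -/
noncomputable abbrev pol : (LaurentSeries R)[X] := X ^ d - C ((tt : (LaurentSeries R)ˣ) : LaurentSeries R)

include p in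
lemma isUnit_dL : IsUnit (d : LaurentSeries R) := by
  have h := p.isUnit_d.map (HahnSeries.C (Γ := ℤ) (R := R))
  rwa [map_natCast] at h

theorem etale [Nontrivial R] : Algebra.Etale (LaurentSeries R) (LB p) := by
  have hm : (pol (R := R) (d := d)).Monic := monic_X_pow_sub_C _ p.pos.ne'
  have hs : (pol (R := R) (d := d)).Separable := separable_X_pow_sub_C_unit _ (isUnit_dL p)
  have h1 : Algebra.Etale (LaurentSeries R) (AdjoinRoot (pol (R := R) (d := d))) :=
    Groth.Agent.CalgB.PopEnlarge.etale_adjoinRoot _ hm hs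
  have hroot : eval₂ (Algebra.ofId (LaurentSeries R) (LB p)) (pw p 1) (pol (R := R) (d := d)) = 0 := by
    unfold pol
    rw [eval₂_sub, eval₂_X_pow, eval₂_C, pw_pow]
    change _ - sub p (HahnSeries.single 1 (1 : R)) = 0
    rw [sub_single, sub_self]
  let φ : AdjoinRoot (pol (R := R) (d := d)) →ₐ[LaurentSeries R] LB p :=
    AdjoinRoot.liftAlgHom _ (Algebra.ofId _ _) (pw p 1) hroot
  let pb := AdjoinRoot.powerBasis' hm
  have hdim : pb.dim = d := by
    change (pol (R := R) (d := d)).natDegree = d
    exact natDegree_X_pow_sub_C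
  have h2 : φ.toLinearMap = (pb.basis.equiv (bas p) (finCongr hdim)).toLinearMap := by
    apply pb.basis.ext
    intro i
    rw [LinearEquiv.coe_coe, Module.Basis.equiv_apply, bas_apply, PowerBasis.basis_eq_pow]
    change φ (AdjoinRoot.root _ ^ (i : ℕ)) = _
    rw [map_pow, AdjoinRoot.liftAlgHom_root, pw_pow]
    simp
  have h3 : Function.Bijective φ := by
    have h4 : ⇑φ = ⇑(pb.basis.equiv (bas p) (finCongr hdim)) := congrArg DFunLike.coe h2
    rw [h4]
    exact (pb.basis.equiv (bas p) (finCongr hdim)).bijective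
  exact Algebra.Etale.of_equiv (AlgEquiv.ofBijective φ h3)

/-! ### The action -/

/-- the group -/
abbrev Gp (d : ℕ) : Type := Multiplicative (ZMod d)

variable {p} in
lemma zpow_eq {x y : ℤ} (h : (x : ZMod d) = (y : ZMod d)) : p.ζ ^ x = p.ζ ^ y := by
  rw [ZMod.intCast_eq_intCast_iff, Int.modEq_iff_dvd] at h
  obtain ⟨k, hk⟩ := h
  have h1 : y = x + d * k := by linarith
  rw [h1, zpow_add, zpow_mul, zpow_natCast, p.pow_eq, one_zpow, mul_one]

/-- the character -/
def chi (a : Gp d) (n : ℤ) : Rˣ := p.ζ ^ ((a.toAdd.val : ℤ) * n)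

variable {p}

lemma chi_add (a : Gp d) (m n : ℤ) : chi p a (m + n) = chi p a m * chi p a n := by
  unfold chi
  rw [mul_add, zpow_add]

lemma chi_zero (a : Gp d) : chi p a 0 = 1 := by
  unfold chi
  rw [mul_zero, zpow_zero]

lemma chi_one (n : ℤ) : chi p (1 : Gp d) n = 1 := by
  unfold chi
  rw [toAdd_one, ZMod.val_zero]
  simp

lemma chi_mul (a b : Gp d) (n : ℤ) : chi p (a * b) n = chi p a n * chi p b n := by
  have : NeZero d := ⟨p.pos.ne'⟩
  unfold chi
  rw [← zpow_add, ← add_mul]
  apply zpow_eq
  push_cast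
  rw [ZMod.natCast_zmod_val, ZMod.natCast_zmod_val, ZMod.natCast_zmod_val, toAdd_mul]

/-- scaling of the coefficients -/
noncomputable def scH {R : Type u} [CommRing R] (χ : ℤ → Rˣ) (f : HahnSeries ℤ R) : HahnSeries ℤ R :=
  HahnSeries.mk (fun n => (χ n : R) * f.coeff n)
    (f.isPWO_support.mono (fun n hn => by
      intro h
      apply hn
      change (χ n : R) * f.coeff n = 0
      rw [h, mul_zero]))

lemma coeff_scH {R : Type u} [CommRing R] (χ : ℤ → Rˣ) (f : HahnSeries ℤ R) (n : ℤ) :
    (scH χ f).coeff n = (χ n : R) * f.coeff n := rfl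

lemma support_scH {R : Type u} [CommRing R] (χ : ℤ → Rˣ) (f : HahnSeries ℤ R) :
    (scH χ f).support = f.support := by
  ext n
  rw [HahnSeries.mem_support, HahnSeries.mem_support, coeff_scH, Ne, Units.mul_right_eq_zero]

lemma scH_mul {R : Type u} [CommRing R] (χ : ℤ → Rˣ) (hχ : ∀ m n, χ (m + n) = χ m * χ n)
    (f g : HahnSeries ℤ R) : scH χ (f * g) = scH χ f * scH χ g := by
  ext n
  rw [coeff_scH, HahnSeries.coeff_mul, HahnSeries.coeff_mul, Finset.mul_sum]
  refine Finset.sum_congr ?_ ?_
  · ext ij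
    rw [Finset.mem_antidiagonal, Finset.mem_antidiagonal, support_scH, support_scH]
  · intro ij hij
    rw [Finset.mem_antidiagonal] at hij
    rw [coeff_scH, coeff_scH, ← hij.2.2, hχ, Units.val_mul]
    ring

variable (p) in
/-- the scaling -/
noncomputable def sc (a : Gp d) (f : LB p) : LB p := scH (chi p a) f

lemma cf_sc (a : Gp d) (f : LB p) (n : ℤ) : cf (sc p a f) n = (chi p a n : R) * cf f n := rfl

lemma sc_mul (a : Gp d) (f g : LB p) : sc p a (f * g) = sc p a f * sc p a g :=
  scH_mul (chi p a) (chi_add a) f g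

noncomputable instance : MulSemiringAction (Gp d) (LB p) where
  smul a f := sc p a f
  one_smul f := cf_ext fun n => by
    change (chi p 1 n : R) * cf f n = _
    rw [chi_one, Units.val_one, one_mul]
  mul_smul a b f := cf_ext fun n => by
    change (chi p (a * b) n : R) * cf f n = (chi p a n : R) * ((chi p b n : R) * cf f n)
    rw [chi_mul, Units.val_mul, mul_assoc]
  smul_zero a := cf_ext fun n => mul_zero _
  smul_add a f g := cf_ext fun n => mul_add _ _ _
  smul_one a := cf_ext fun n => by
    change (chi p a n : R) * cf (1 : LB p) n = cf (1 : LB p) n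
    by_cases h : n = 0
    · subst h
      rw [chi_zero, Units.val_one, one_mul]
    · rw [cf_one_of_ne h, mul_zero]
  smul_mul a f g := sc_mul a f g

lemma cf_smul (a : Gp d) (f : LB p) (n : ℤ) : cf (a • f) n = (chi p a n : R) * cf f n := rfl

lemma smul_sub' (a : Gp d) (f : LaurentSeries R) : a • sub p f = sub p f := by
  apply cf_ext
  intro n
  rw [cf_smul]
  by_cases h : (d : ℤ) ∣ n
  · obtain ⟨k, rfl⟩ := h
    unfold chi
    rw [mul_left_comm, zpow_mul, zpow_natCast, p.pow_eq, one_zpow, Units.val_one, one_mul]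
  · rw [cf_sub_of_not_dvd p f n h, mul_zero]

instance : SMulCommClass (Gp d) (LaurentSeries R) (LB p) where
  smul_comm a f g := by
    rw [Algebra.smul_def, Algebra.smul_def, smul_mul', algebraMap_eq, smul_sub']

variable (p) in
/-- constants -/
noncomputable def kap : R →+* LB p := HahnSeries.C (Γ := ℤ)

lemma cf_kap_zero (r : R) : cf (kap p r) 0 = r := HahnSeries.coeff_single_same _ _

lemma cf_kap_of_ne (r : R) {n : ℤ} (h : n ≠ 0) : cf (kap p r) n = 0 := HahnSeries.coeff_single_of_ne h

lemma cf_kap_mul (r : R) (n : ℤ) (f : LB p) : cf (kap p r * f) n = r * cf f n :=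
  HahnSeries.coeff_single_zero_mul

lemma smul_kap (a : Gp d) (r : R) : a • kap p r = kap p r := by
  have h1 : kap p r = sub p (HahnSeries.C (Γ := ℤ) r) := HahnSeries.embDomainRingHom_C.symm
  rw [h1, smul_sub']

lemma smul_pw (a : Gp d) (n : ℤ) : a • pw p n = kap p (chi p a n : R) * pw p n := by
  apply cf_ext
  intro m
  rw [cf_smul, cf_mul_pw]
  by_cases h : m = n
  · subst h
    rw [cf_pw, mul_one, sub_self, cf_kap_zero]
  · rw [cf_pw_of_ne _ h, mul_zero, cf_kap_of_ne _ (sub_ne_zero.2 h)]

lemma chi_dvd {a : Gp d} (ha : a ≠ 1) {n : ℤ} (h : IsUnit n) : IsUnit (((chi p a n : Rˣ) : R) - 1) := by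
  have : NeZero d := ⟨p.pos.ne'⟩
  unfold chi
  apply p.isUnit_sub
  intro h1
  rw [h.dvd_mul_right] at h1
  apply ha
  have h2 : (d : ℕ) ∣ a.toAdd.val := by exact_mod_cast h1
  have h3 := Nat.eq_zero_of_dvd_of_lt h2 (ZMod.val_lt _)
  rw [ZMod.val_eq_zero] at h3
  exact Multiplicative.toAdd.injective h3

/-- **The extension is Galois.** -/
theorem isGal [Nontrivial R] : letI : NeZero d := ⟨p.pos.ne'⟩
    K965.Gal.IsGal (LaurentSeries R) (LB p) (Gp d) := by
  have : NeZero d := ⟨p.pos.ne'⟩
  have hcard : (Finset.univ : Finset (Gp d)).card = d := by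
    rw [Finset.card_univ, Fintype.card_multiplicative, ZMod.card]
  obtain ⟨c, hc⟩ := p.isUnit_d.exists_right_inv
  have hd1 : (d : LB p) * kap p c = 1 := by
    rw [← map_natCast (kap p), ← map_mul, hc, map_one]
  refine ⟨inferInstance, inferInstance, etale p, ?_, ?_, ?_⟩
  · intro b hb
    refine ⟨comp b 0, ?_⟩
    rw [algebraMap_eq]
    apply cf_ext
    intro n
    by_cases h : (d : ℤ) ∣ n
    · obtain ⟨k, rfl⟩ := h
      rw [cf_sub, coeff_comp, add_zero]
    · rw [cf_sub_of_not_dvd p _ n h]
      have h1 := congrArg (fun f => cf f n) (hb (Multiplicative.ofAdd 1))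
      beta_reduce at h1
      rw [cf_smul] at h1
      have h2 : IsUnit (((chi p (Multiplicative.ofAdd 1) n : Rˣ) : R) - 1) := by
        unfold chi
        apply p.isUnit_sub
        intro h3
        apply h
        rw [toAdd_ofAdd] at h3
        have h4 : ((n : ℤ) : ZMod d) = 0 := by
          rw [← ZMod.intCast_zmod_eq_zero_iff_dvd] at h3
          push_cast at h3
          rwa [ZMod.natCast_zmod_val, one_mul] at h3
        exact (ZMod.intCast_zmod_eq_zero_iff_dvd _ _).1 h4
      have h3 : (((chi p (Multiplicative.ofAdd 1) n : Rˣ) : R) - 1) * cf b n = 0 := by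
        rw [sub_mul, one_mul, h1, sub_self]
      exact (h2.mul_right_eq_zero.1 h3).symm
  · refine ⟨kap p c, ?_⟩
    rw [Finset.sum_congr rfl fun a _ => smul_kap a c, Finset.sum_const, hcard, nsmul_eq_mul, hd1]
  · refine ⟨d, fun i => kap p c * pw p (-(i : ℤ)), fun i => pw p i, ?_, ?_⟩
    · have h1 : ∀ i : Fin d, kap p c * pw p (-(i : ℤ)) * pw p i = kap p c := by
        intro i
        rw [mul_assoc, ← pw_add, neg_add_cancel, pw_zero, mul_one]
      rw [Finset.sum_congr rfl fun i _ => h1 i, Finset.sum_const, Finset.card_univ, Fintype.card_fin,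
        nsmul_eq_mul, hd1]
    · intro a ha
      have h1 : ∀ i : Fin d, kap p c * pw p (-(i : ℤ)) * a • pw p i = kap p c * kap p ((chi p a 1 : R) ^ (i : ℕ)) := by
        intro i
        have h2 : a • pw p i = kap p (chi p a i : R) * pw p i := smul_pw a i
        have h3 : (chi p a i : R) = (chi p a 1 : R) ^ (i : ℕ) := by
          unfold chi
          rw [mul_one, zpow_mul, zpow_natCast, ← Units.val_pow_eq_pow_val]
        rw [h2, h3, mul_assoc, mul_left_comm (pw p (-(i : ℤ))), ← pw_add, neg_add_cancel, pw_zero, mul_one]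
      rw [Finset.sum_congr rfl fun i _ => h1 i, ← Finset.mul_sum, ← map_sum,
        ← Finset.sum_range (fun i => (chi p a 1 : R) ^ i)]
      have h4 : (((chi p a 1 : Rˣ) : R) - 1) * ∑ i ∈ Finset.range d, (chi p a 1 : R) ^ i = 0 := by
        rw [mul_geom_sum, ← Units.val_pow_eq_pow_val]
        unfold chi
        rw [mul_one, ← zpow_natCast, ← zpow_mul, mul_comm, zpow_mul, zpow_natCast p.ζ, p.pow_eq, one_zpow,
          Units.val_one, sub_self]
      rw [(chi_dvd ha isUnit_one).mul_right_eq_zero.1 h4, map_zero, mul_zero]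

end K832.LaurGal
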