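import Groth.Agent.NonAbH1.K832.LaurKum

/-!
# Vanishing of `H¹` for `R((u)) / R((t))`, `u ^ d = t`
-/

set_option autoImplicit false
universe u

open K832.LaurGal K964.CharExt K832.CycVan K832.TorSec

namespace K832.LaurH1

section

variable {B : Type u} [CommRing B] {d : ℕ} [NeZero d] [MulSemiringAction (Gp d) B]
  {Λ : Type} [AddCommGroup Λ] [DistribMulAction (Gp d) Λ]

/-- the generator -/
def g0 (d : ℕ) : Gp d := Multiplicative.ofAdd (1 : ZMod d)

lemma exists_pow (g : Gp d) : ∃ k : ℕ, g = g0 d ^ k := by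
  refine ⟨g.toAdd.val, ?_⟩
  apply Multiplicative.toAdd.injective
  rw [toAdd_pow]
  change _ = (g.toAdd.val) • (1 : ZMod d)
  rw [nsmul_one, ZMod.natCast_zmod_val]

omit [NeZero d] in
lemma g0_pow : g0 d ^ d = 1 := by
  apply Multiplicative.toAdd.injective
  rw [toAdd_pow]
  change d • (1 : ZMod d) = 0
  rw [nsmul_one, ZMod.natCast_self]

/-- the inverse of the generator on characters -/
def ta (d : ℕ) (Λ : Type) [AddCommGroup Λ] [DistribMulAction (Gp d) Λ] : Module.End ℤ Λ :=
  (DistribSMul.toAddMonoidHom Λ ((g0 d)⁻¹)).toIntLinearMap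

omit [NeZero d] in
lemma ta_apply (m : Λ) : ta d Λ m = (g0 d)⁻¹ • m := rfl

lemma ta_pow_apply (k : ℕ) (m : Λ) : (ta d Λ ^ k) m = (g0 d ^ k)⁻¹ • m := by
  induction k generalizing m with
  | zero => simp
  | succ k ih =>
    rw [pow_succ, Module.End.mul_apply, ta_apply, ih, ← mul_smul, pow_succ', mul_inv_rev]

/-- the generator on units -/
def sa (d : ℕ) (B : Type u) [CommRing B] [MulSemiringAction (Gp d) B] : Module.End ℤ (Additive Bˣ) :=
  (ua (g0 d) : Additive Bˣ →+ Additive Bˣ).toIntLinearMap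

lemma sa_pow_apply (k : ℕ) (x : Additive Bˣ) : (sa d B ^ k) x = ua (g0 d ^ k) x := by
  induction k generalizing x with
  | zero =>
    apply addUnits_ext
    rw [vl_ua, pow_zero, pow_zero, one_smul]
    rfl
  | succ k ih =>
    rw [pow_succ, Module.End.mul_apply, ih]
    apply addUnits_ext
    rw [vl_ua, vl_ua, pow_succ, mul_smul]
    rfl

/-- Reduction to the Kummer structure. -/
theorem h1Van [Module.Free ℤ Λ] (V : Type) [AddCommGroup V] (dv : V →ₗ[ℤ] V) (e : V)
    (j : V →ₗ[ℤ] Additive Bˣ) (π : Additive Bˣ) (K : Kum d (Additive Bˣ) (sa d B) V dv e j π) :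
    H1Van (Gp d) B Λ := by
  intro ε hε
  have hτ : ta d Λ ^ d = 1 := by
    ext m
    rw [ta_pow_apply, g0_pow, inv_one, one_smul]
    rfl
  have hσ : sa d B ^ d = 1 := by
    apply LinearMap.ext
    intro x
    rw [sa_pow_apply, g0_pow]
    apply addUnits_ext
    rw [vl_ua, one_smul]
    rfl
  have h1 : ∀ k : ℕ, (ε (g0 d ^ k)).toIntLinearMap =
      nm (tw (sa d B) (ta d Λ)) k (ε (g0 d)).toIntLinearMap := by
    intro k
    induction k with
    | zero =>
      apply LinearMap.ext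
      intro m
      have h2 := hε 1 1 m
      rw [mul_one, inv_one, one_smul] at h2
      have h3 : ua (1 : Gp d) (ε 1 m) = ε 1 m := addUnits_ext (by rw [vl_ua, one_smul])
      rw [h3, left_eq_add] at h2
      rw [pow_zero]
      exact h2
    | succ k ih =>
      rw [nm_succ, LinearMap.add_apply, ← ih]
      apply LinearMap.ext
      intro m
      rw [LinearMap.add_apply, tw_pow_apply, sa_pow_apply, ta_pow_apply, pow_succ]
      exact hε _ _ _
  obtain ⟨h, hh⟩ := exists_of_nm K (ta d Λ) hτ hσ (ε (g0 d)).toIntLinearMap (by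
    rw [← h1 d, g0_pow]
    have h2 := h1 0
    rw [pow_zero] at h2
    rw [h2]
    simp [nm])
  have hh' : (ε (g0 d)).toIntLinearMap = tw (sa d B) (ta d Λ) h - h := by
    apply LinearMap.ext
    intro m
    rw [LinearMap.sub_apply, tw_apply]
    exact hh m
  refine ⟨h.toAddMonoidHom, ?_⟩
  intro g m
  obtain ⟨k, rfl⟩ := exists_pow g
  have h3 : (ε (g0 d ^ k)).toIntLinearMap = (tw (sa d B) (ta d Λ) ^ k) h - h := by
    rw [h1, hh']
    have h4 := geom_sum_mul (tw (sa d B) (ta d Λ)) k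
    have h5 : nm (tw (sa d B) (ta d Λ)) k (tw (sa d B) (ta d Λ) h - h) =
        (nm (tw (sa d B) (ta d Λ)) k * (tw (sa d B) (ta d Λ) - 1)) h := rfl
    rw [h5, nm, h4]
    rfl
  have h4 := congr($h3 m)
  rw [LinearMap.sub_apply, tw_pow_apply, sa_pow_apply, ta_pow_apply] at h4
  exact h4

end

theorem h1Van_laurent {R : Type u} [CommRing R] {d : ℕ} [NeZero d] (p : Par R d)
    [IsReduced R] [HenselianLocalRing R] [IsSepClosed (IsLocalRing.ResidueField R)]
    (hroot : ∀ x : Rˣ, x ^ d = 1 → ∃ i : ℤ, x = p.ζ ^ i)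
    {Λ : Type} [AddCommGroup Λ] [DistribMulAction (Gp d) Λ] [Module.Free ℤ Λ] : H1Van (Gp d) (LB p) Λ := by
  obtain ⟨V, _, dv, e, j, π, K⟩ := K832.LaurKum.exists_kum p hroot
  exact h1Van V dv e j π K

end K832.LaurH1
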