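import Groth.Agent.MultTori.K964.TorsY
import Groth.Agent.MultTori.K964.Cocyc

/-!
# Sections of torsors under groups of multiplicative type from vanishing of `H¹`

`A → B` Galois with group `G`, `M` over `Spec A` with dictionary `D` (characters `Λ`, free of finite type), `Pic B = 0`
and `H¹(G, Hom (Λ, Bˣ)) = 0`: every fppf torsor under `M` has a section (`exists_section`).
-/

set_option autoImplicit false
universe u

open CategoryTheory CategoryTheory.Limits MonoidalCategory CartesianMonoidalCategory AlgebraicGeometry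
open TensorProduct

namespace K832.TorSec

open K965.Gal K964.UC K964.CharExt K964.AffPt K964.Pt K964.Cocyc
open K965.Pts (sp mp)
open scoped MonObj GrpObj

variable {A B : Type u} [CommRing A] [CommRing B] [Algebra A B] {G : Type} [Group G] [Fintype G]
    [MulSemiringAction G B] [SMulCommClass G A B]
    {M : Over (Spec (CommRingCat.of A))} [GrpObj M] {Λ : Type} [AddCommGroup Λ] [DistribMulAction G Λ]

/-- The action of the group on the units, additively. -/
def ua (g : G) : Additive Bˣ →+ Additive Bˣ := um (MulSemiringAction.toRingHom G B g)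

lemma vl_ua (g : G) (u : Additive Bˣ) : vl (ua g u) = g • vl u := rfl

/-- one-cocycles with values in the characters are coboundaries -/
def H1Van (G : Type) [Group G] (B : Type u) [CommRing B] [MulSemiringAction G B]
    (Λ : Type) [AddCommGroup Λ] [DistribMulAction G Λ] : Prop :=
  ∀ e : G → (Λ →+ Additive Bˣ), (∀ g h m, e (g * h) m = e g m + ua g (e h (g⁻¹ • m))) →
    ∃ f : Λ →+ Additive Bˣ, ∀ g m, e g m = ua g (f (g⁻¹ • m)) - f m

/-- units of `B` in the tensor product -/
def inrA (A B A' : Type u) [CommRing A] [CommRing B] [Algebra A B] [CommRing A'] [Algebra A A'] :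
    Additive Bˣ →+ Additive (A' ⊗[A] B)ˣ :=
  um ((Algebra.TensorProduct.includeRight : B →ₐ[A] A' ⊗[A] B) : B →+* A' ⊗[A] B)

lemma vl_inrA (A' : Type u) [CommRing A'] [Algebra A A'] (b : Additive Bˣ) :
    vl (inrA A B A' b) = (1 : A') ⊗ₜ[A] vl b := rfl

lemma inrA_injective (A' : Type u) [CommRing A'] [Algebra A A'] [Module.FaithfullyFlat A A'] :
    Function.Injective (inrA A B A') := by
  intro b c h
  apply addUnits_ext
  exact Module.FaithfullyFlat.tensorProduct_mk_injective (A := A) (B := A') B (congrArg vl h)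

/-- The action of the group on the units of the tensor product. -/
noncomputable def au (A B A' : Type u) [CommRing A] [CommRing B] [Algebra A B] [CommRing A'] [Algebra A A']
    {G : Type} [Group G] [MulSemiringAction G B] [SMulCommClass G A B] (g : G) :
    Additive (A' ⊗[A] B)ˣ →+ Additive (A' ⊗[A] B)ˣ := um (act A B A' g : A' ⊗[A] B →+* A' ⊗[A] B)

lemma vl_au (A' : Type u) [CommRing A'] [Algebra A A'] (g : G) (z : Additive (A' ⊗[A] B)ˣ) :
    vl (au A B A' g z) = act A B A' g (vl z) := rfl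

lemma au_inrA (A' : Type u) [CommRing A'] [Algebra A A'] (g : G) (b : Additive Bˣ) :
    au A B A' g (inrA A B A' b) = inrA A B A' (ua g b) := by
  apply addUnits_ext
  rw [vl_au, vl_inrA, vl_inrA, act_tmul, vl_ua]

lemma au_mul (A' : Type u) [CommRing A'] [Algebra A A'] (g h : G) (z : Additive (A' ⊗[A] B)ˣ) :
    au A B A' (g * h) z = au A B A' g (au A B A' h z) := by
  apply addUnits_ext
  rw [vl_au, vl_au, vl_au, act_act]

lemma um_au {T T' : Type u} [CommRing T] [CommRing T'] [Algebra A T] [Algebra A T'] (φ : T →ₐ[A] T')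
    (g : G) (z : Additive (T ⊗[A] B)ˣ) :
    um (mB B φ : T ⊗[A] B →+* T' ⊗[A] B) (au A B T g z) =
      au A B T' g (um (mB B φ : T ⊗[A] B →+* T' ⊗[A] B) z) := by
  apply addUnits_ext
  exact map_act φ g (vl z)

theorem exists_section (hG : IsGal A B G) (D : K965.Dict A B G M Λ) [Module.Free ℤ Λ]
    (hPic : Subsingleton (CommRing.Pic B)) (hH : H1Van G B Λ)
    (P : NonAbH1.TorsorSch M Scheme.fppfPrecoverage) :
    Nonempty (𝟙_ (Over (Spec (CommRingCat.of A))) ⟶ P.X) := by
  obtain ⟨A', _, _, hff, hfp, ⟨x⟩⟩ := exists_point P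
  have ha := P.isTorsor.1
  -- unit cocycles
  let u : ∀ (m : Λ) (T : Type u) [CommRing T] [Algebra A T], (A' →ₐ[A] T) → (A' →ₐ[A] T) → (T ⊗[A] B)ˣ :=
    fun m T _ _ φ ψ => (D.ch T (cocy ha x φ ψ) m).toMul
  have hu : ∀ (m : Λ) (T : Type u) [CommRing T] [Algebra A T] (φ ψ : A' →ₐ[A] T),
      (u m T φ ψ : T ⊗[A] B) = vl (D.ch T (cocy ha x φ ψ) m) := fun _ _ _ _ _ _ => rfl
  have h1 : ∀ m : Λ, ∃ d : (A' ⊗[A] B)ˣ, ∀ (T : Type u) [CommRing T] [Algebra A T] (φ ψ : A' →ₐ[A] T),
      (u m T φ ψ : T ⊗[A] B) * mB B φ (d : A' ⊗[A] B) = mB B ψ (d : A' ⊗[A] B) := by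
    intro m
    refine exists_unit hPic (u m) ?_ ?_
    · intro T T' _ _ _ _ θ φ ψ
      rw [hu, hu, ← ap_cocy ha x φ ψ θ, K964.TorsY.ch_nat']
    · intro T _ _ φ ψ χ
      rw [hu, hu, hu, ← cocy_mul ha x φ ψ χ, D.ch_mul, AddMonoidHom.add_apply, vl_add, mul_comm]
  choose d hd using h1
  let bs := Module.Free.chooseBasis ℤ Λ
  let n : Λ →ₗ[ℤ] Additive (A' ⊗[A] B)ˣ := bs.constr ℤ (fun i => Additive.ofMul (d (bs i)))
  have hn : ∀ (T : Type u) [CommRing T] [Algebra A T] (φ ψ : A' →ₐ[A] T) (m : Λ),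
      D.ch T (cocy ha x φ ψ) m + um (mB B φ : A' ⊗[A] B →+* T ⊗[A] B) (n m) =
        um (mB B ψ : A' ⊗[A] B →+* T ⊗[A] B) (n m) := by
    intro T _ _ φ ψ
    have h2 : (D.ch T (cocy ha x φ ψ)).toIntLinearMap +
        (um (mB B φ : A' ⊗[A] B →+* T ⊗[A] B)).toIntLinearMap ∘ₗ n =
        (um (mB B ψ : A' ⊗[A] B →+* T ⊗[A] B)).toIntLinearMap ∘ₗ n := by
      apply bs.ext
      intro i
      apply addUnits_ext
      have h3 : n (bs i) = Additive.ofMul (d (bs i)) := bs.constr_basis ℤ _ i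
      change vl (D.ch T (cocy ha x φ ψ) (bs i)) * mB B φ (vl (n (bs i))) = mB B ψ (vl (n (bs i)))
      rw [h3]
      exact hd (bs i) T φ ψ
    intro m
    exact congr($h2 m)
  have hch : ∀ (T : Type u) [CommRing T] [Algebra A T] (y : sp (algebraMap A T) ⟶ M) (g : G) (m : Λ),
      D.ch T y (g • m) = au A B T g (D.ch T y m) := by
    intro T _ _ y g m
    apply addUnits_ext
    exact D.ch_smul T y g m
  -- the cocycle
  have h2 : ∀ (g : G) (m : Λ), ∃ b : Additive Bˣ, inrA A B A' b = au A B A' g (n (g⁻¹ • m)) - n m := by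
    intro g m
    have h3 : ∀ (T : Type u) [CommRing T] [Algebra A T] (φ ψ : A' →ₐ[A] T),
        um (mB B φ : A' ⊗[A] B →+* T ⊗[A] B) (au A B A' g (n (g⁻¹ • m)) - n m) =
          um (mB B ψ : A' ⊗[A] B →+* T ⊗[A] B) (au A B A' g (n (g⁻¹ • m)) - n m) := by
      intro T _ _ φ ψ
      have h4 := congrArg (au A B T g) (hn T φ ψ (g⁻¹ • m))
      rw [map_add, ← hch, smul_inv_smul, ← um_au, ← um_au] at h4
      rw [map_sub, map_sub, ← h4, ← hn T φ ψ m]
      abel
    obtain ⟨b, hb⟩ := exists_unit_of_eq (au A B A' g (n (g⁻¹ • m)) - n m).toMul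
      (congrArg vl (h3 (A' ⊗[A] A') Algebra.TensorProduct.includeLeft
        Algebra.TensorProduct.includeRight))
    exact ⟨Additive.ofMul b, addUnits_ext hb.symm⟩
  choose ε₀ hε₀ using h2
  let ε : G → (Λ →+ Additive Bˣ) := fun g =>
    { toFun := ε₀ g
      map_zero' := inrA_injective A' (by rw [hε₀, smul_zero, map_zero, map_zero, map_zero, sub_zero])
      map_add' := fun m m' => inrA_injective A' (by
        rw [hε₀, map_add (inrA A B A'), hε₀, hε₀, smul_add, map_add, map_add, map_add]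
        abel) }
  have hε : ∀ g m, inrA A B A' (ε g m) = au A B A' g (n (g⁻¹ • m)) - n m := hε₀
  obtain ⟨f, hf⟩ := hH ε (by
    intro g h m
    apply inrA_injective (A := A) A'
    rw [map_add, ← au_inrA, hε, hε, hε, map_sub, ← au_mul, mul_inv_rev, mul_smul]
    abel)
  -- the equivariant character
  let n' : Λ →+ Additive (A' ⊗[A] B)ˣ := n.toAddMonoidHom - (inrA A B A').comp f
  have hn' : ∀ m, n' m = n m - inrA A B A' (f m) := fun m => rfl
  obtain ⟨y, hy⟩ := D.ch_surj A' n' (by
    intro g m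
    have h3 := congrArg (inrA A B A') (hf g (g • m))
    rw [hε, inv_smul_smul, map_sub, ← au_inrA] at h3
    have h4 : n' (g • m) = au A B A' g (n' m) := by
      rw [hn', hn', map_sub]
      have h5 : n (g • m) = au A B A' g (n m) - (au A B A' g (inrA A B A' (f m)) -
          inrA A B A' (f (g • m))) := by
        rw [← h3]
        abel
      rw [h5]
      abel
    exact congrArg vl h4)
  -- the descended point
  have hcy : ∀ (T : Type u) [CommRing T] [Algebra A T] (φ ψ : A' →ₐ[A] T),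
      (ap ψ ≫ y) = cocy ha x φ ψ * (ap φ ≫ y) := by
    intro T _ _ φ ψ
    apply D.ch_inj T
    rw [D.ch_mul]
    ext1 m
    rw [AddMonoidHom.add_apply]
    have h5 : ∀ (φ : A' →ₐ[A] T), D.ch T (ap φ ≫ y) m =
        um (mB B φ : A' ⊗[A] B →+* T ⊗[A] B) (n m) - inrA A B T (f m) := by
      intro φ
      apply addUnits_ext
      rw [K964.TorsY.ch_nat', hy, hn']
      have h6 : um (mB B φ : A' ⊗[A] B →+* T ⊗[A] B) (n m - inrA A B A' (f m)) =
          um (mB B φ : A' ⊗[A] B →+* T ⊗[A] B) (n m) - inrA A B T (f m) := by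
        rw [map_sub]
        congr 1
        apply addUnits_ext
        change mB B φ ((1 : A') ⊗ₜ[A] vl (f m)) = (1 : T) ⊗ₜ[A] vl (f m)
        rw [Algebra.TensorProduct.map_tmul, map_one]
        rfl
      exact congrArg vl h6
    rw [h5, h5, ← hn T φ ψ m]
    abel
  have hpt : ∀ (T : Type u) [CommRing T] [Algebra A T] (φ ψ : A' →ₐ[A] T),
      ap φ ≫ sm P.act y⁻¹ x = ap ψ ≫ sm P.act y⁻¹ x := by
    intro T _ _ φ ψ
    rw [comp_sm, comp_sm, GrpObj.comp_inv, GrpObj.comp_inv, hcy T φ ψ, mul_inv_rev, mul_sm]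
    congr 1
    have h6 : ap ψ ≫ x = sm P.act (cocy ha x φ ψ) (ap φ ≫ x) := (sm_df ha _ _).symm
    rw [h6, ← mul_sm, inv_mul_cancel, one_sm]
  obtain ⟨s, -, -⟩ := K826.Descend.existsUnique_descend_unit Scheme.fppfPrecoverage_le_fpqcPrecoverage
    (locTriv_sp (A := A) A') (sm P.act y⁻¹ x) (by
      have h7 : fst (sp (algebraMap A A')) (sp (algebraMap A A')) ≫ sm P.act y⁻¹ x =
          snd (sp (algebraMap A A')) (sp (algebraMap A A')) ≫ sm P.act y⁻¹ x := by
        apply prod_ext
        rw [lift_fst_assoc, lift_snd_assoc]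
        exact hpt _ _ _
      intro T' z z'
      have h8 := congrArg (CartesianMonoidalCategory.lift z z' ≫ ·) h7
      simpa using h8)
  exact ⟨s⟩

end K832.TorSec
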