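import Groth.Agent.NonAbH1.K832.LaurGal
import Groth.Agent.NonAbH1.K832.CycVan
import Groth.Agent.NonAbH1.K832.TorSec
import Groth.Agent.S15750

/-!
# The Kummer structure on the units of `R((u))`
-/

set_option autoImplicit false
universe u

open K832.LaurGal K964.CharExt

namespace K832.LaurKum

section idem

variable {R : Type u} [CommRing R]

lemma coeff_single_mul_power (N : ℤ) (w : PowerSeries R) (j : ℤ) (h : j < N) :
    (HahnSeries.single N (1 : R) * HahnSeries.ofPowerSeries ℤ R w).coeff j = 0 := by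
  rw [HahnSeries.coeff_single_mul, one_mul]
  have h1 := PowerSeries.coeff_coe (f := w) (j - N)
  rw [if_pos (by omega)] at h1
  exact h1

lemma single_zpow (n k : ℤ) : ∀ (x : (LaurentSeries R)ˣ), (x : LaurentSeries R) = HahnSeries.single n (1 : R) →
    ((x ^ k : (LaurentSeries R)ˣ) : LaurentSeries R) = HahnSeries.single (k * n) (1 : R) := by
  intro x hx
  have hinv : ((x⁻¹ : (LaurentSeries R)ˣ) : LaurentSeries R) = HahnSeries.single (-n) (1 : R) := by
    apply x.isUnit.mul_left_cancel
    rw [Units.mul_inv, hx, HahnSeries.single_mul_single]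
    simp
  induction k with
  | zero => simp
  | succ i ih =>
    have h1 : ((i : ℤ) + 1) * n = i * n + n := by ring
    rw [zpow_add_one, Units.val_mul, ih, hx, HahnSeries.single_mul_single, h1, one_mul]
  | pred i ih =>
    have h1 : (-(i : ℤ) - 1) * n = -i * n + -n := by ring
    rw [zpow_sub_one, Units.val_mul, ih, hinv, HahnSeries.single_mul_single, h1, one_mul]

/-- Idempotents of the Laurent series ring over a reduced connected ring are trivial. -/
theorem idem [IsReduced R] [Nontrivial R] (hconn : ∀ e : R, IsIdempotentElem e → e = 0 ∨ e = 1)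
    (e : LaurentSeries R) (he : e * e = e) : e = 0 ∨ e = 1 := by
  let F : ℤ → LaurentSeries R := fun k => e * HahnSeries.single k (1 : R) + (1 - e)
  have hF : ∀ k l, F k * F l = F (k + l) := by
    intro k l
    have h1 : (HahnSeries.single (k + l) (1 : R)) = HahnSeries.single k (1 : R) * HahnSeries.single l (1 : R) := by
      rw [HahnSeries.single_mul_single, one_mul]
    simp only [F]
    rw [h1]
    have h2 : e * (1 - e) = 0 := by rw [mul_sub, mul_one, he, sub_self]
    have h3 : (1 - e) * (1 - e) = 1 - e := by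
      rw [mul_sub, mul_one, mul_comm (1 - e) e, h2, sub_zero]
    linear_combination (HahnSeries.single k (1 : R) * HahnSeries.single l (1 : R)) * he +
      (HahnSeries.single k (1 : R) + HahnSeries.single l (1 : R)) * h2 + h3
  have hF0 : F 0 = 1 := by
    simp only [F]
    have : (HahnSeries.single (0 : ℤ) (1 : R)) = 1 := rfl
    rw [this, mul_one]
    ring
  let f : (LaurentSeries R)ˣ := ⟨F 1, F (-1), by rw [hF]; exact hF0, by rw [hF]; exact hF0⟩
  have hf : ∀ k : ℤ, ((f ^ k : (LaurentSeries R)ˣ) : LaurentSeries R) = F k := by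
    intro k
    induction k with
    | zero => rw [zpow_zero, Units.val_one, hF0]
    | succ i ih =>
      rw [zpow_add_one, Units.val_mul, ih]
      exact hF _ _
    | pred i ih =>
      rw [zpow_sub_one, Units.val_mul, ih]
      exact hF _ _
  obtain ⟨⟨n, v⟩, hnv, -⟩ := Groth.Agent.S15750.result R hconn f
  dsimp only at hnv
  -- vanishing of coefficients
  let x : (LaurentSeries R)ˣ := ⟨HahnSeries.single n (1 : R), HahnSeries.single (-n) (1 : R), by
    rw [HahnSeries.single_mul_single]; simp, by rw [HahnSeries.single_mul_single]; simp⟩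
  have hfx : f = x * Units.map (HahnSeries.ofPowerSeries ℤ R : PowerSeries R →* LaurentSeries R) v :=
    Units.ext hnv
  have hvan : ∀ k j : ℤ, j < k * n → e.coeff (j - k) + (1 - e).coeff j = 0 := by
    intro k j hj
    have h1 : F k = HahnSeries.single (k * n) (1 : R) *
        HahnSeries.ofPowerSeries ℤ R ((v ^ k : (PowerSeries R)ˣ) : PowerSeries R) := by
      rw [← hf, hfx, mul_zpow, Units.val_mul, single_zpow n k x rfl, ← map_zpow]
      rfl
    have h2 := congrArg (fun z : LaurentSeries R => z.coeff j) h1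
    beta_reduce at h2
    rw [coeff_single_mul_power _ _ _ hj] at h2
    rw [← h2]
    simp only [F]
    rw [HahnSeries.coeff_add, HahnSeries.coeff_mul_single, mul_one]
  have hlow : ∀ (z : LaurentSeries R), ∃ N : ℤ, ∀ j, j < N → z.coeff j = 0 := fun z =>
    ⟨z.order, fun j hj => HahnSeries.coeff_eq_zero_of_lt_order hj⟩
  obtain ⟨N, hN⟩ := hlow e
  obtain ⟨N', hN'⟩ := hlow (1 - e)
  by_cases hn : 1 ≤ n
  · right
    have h1 : (1 - e) = 0 := by
      ext j
      have h2 := hvan (|j| + |N| + 1) j (by nlinarith [le_abs_self j, abs_nonneg j, abs_nonneg N])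
      rw [hN _ (by nlinarith [le_abs_self j, neg_abs_le N]), zero_add] at h2
      exact h2
    exact (sub_eq_zero.1 h1).symm
  · left
    ext m
    have hk : (0 : ℤ) ≤ |m| + |N'| + 1 := by positivity
    have h2 := hvan (-(|m| + |N'| + 1)) (m - (|m| + |N'| + 1)) (by
      nlinarith [le_abs_self m, abs_nonneg N', abs_nonneg m])
    rw [hN' _ (by nlinarith [le_abs_self m, neg_abs_le N']), add_zero] at h2
    have h3 : m - (|m| + |N'| + 1) - -(|m| + |N'| + 1) = m := by ring
    rw [h3] at h2
    exact h2

end idem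

section Sd

/-- The group `ℤ[1/d]` inside `ℚ`. -/
def Sd (d : ℕ) (hd : 0 < d) : AddSubgroup ℚ where
  carrier := {q | ∃ (k : ℕ) (n : ℤ), q * (d : ℚ) ^ k = n}
  add_mem' := by
    rintro a b ⟨k, n, h⟩ ⟨l, m, h'⟩
    refine ⟨k + l, n * d ^ l + m * d ^ k, ?_⟩
    push_cast
    rw [← h, ← h', pow_add]
    ring
  zero_mem' := ⟨0, 0, by simp⟩
  neg_mem' := by
    rintro a ⟨k, n, h⟩
    exact ⟨k, -n, by push_cast; rw [← h]; ring⟩

variable {d : ℕ} (hd : 0 < d)

/-- division by `d` -/
def dvS : Sd d hd →ₗ[ℤ] Sd d hd where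
  toFun q := ⟨(q : ℚ) / d, by
    obtain ⟨k, n, h⟩ := q.2
    refine ⟨k + 1, n, ?_⟩
    rw [← h, pow_succ]
    have : (d : ℚ) ≠ 0 := by exact_mod_cast hd.ne'
    field_simp⟩
  map_add' x y := Subtype.ext (by push_cast; ring)
  map_smul' n x := Subtype.ext (by
    rw [RingHom.id_apply]
    push_cast
    rw [smul_div_assoc])

lemma dvS_coe (q : Sd d hd) : ((dvS hd q : Sd d hd) : ℚ) = (q : ℚ) / d := rfl

/-- one -/
def eS : Sd d hd := ⟨1, 0, 1, by simp⟩

variable {U : Type*} [AddCommGroup U] (z : ℕ → U) (hz : ∀ k, (d : ℤ) • z (k + 1) = z k)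

include hz in
lemma pow_smul_z (k l : ℕ) : ((d : ℤ) ^ l) • z (k + l) = z k := by
  induction l with
  | zero => simp
  | succ l ih =>
    rw [pow_succ, mul_smul, ← Nat.add_assoc, hz, ih]

include hz in
lemma well_def (q : ℚ) (k l : ℕ) (n m : ℤ) (h : q * (d : ℚ) ^ k = n) (h' : q * (d : ℚ) ^ l = m) :
    n • z k = m • z l := by
  have h1 : n * (d : ℤ) ^ l = m * (d : ℤ) ^ k := by
    have : ((n * (d : ℤ) ^ l : ℤ) : ℚ) = ((m * (d : ℤ) ^ k : ℤ) : ℚ) := by
      push_cast
      rw [← h, ← h']
      ring
    exact_mod_cast this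
  rw [← pow_smul_z z hz k l, ← pow_smul_z z hz l k, ← mul_smul, ← mul_smul, h1, Nat.add_comm l k]

include hz in
theorem exists_j : ∃ j : Sd d hd →ₗ[ℤ] U, ∀ (q : Sd d hd) (k : ℕ) (n : ℤ), (q : ℚ) * (d : ℚ) ^ k = n →
    j q = n • z k := by
  choose k n h using fun q : Sd d hd => q.2
  have key : ∀ (q : Sd d hd) (k' : ℕ) (n' : ℤ), (q : ℚ) * (d : ℚ) ^ k' = n' → n q • z (k q) = n' • z k' :=
    fun q k' n' h' => well_def z hz q _ _ _ _ (h q) h'
  refine ⟨{ toFun := fun q => n q • z (k q), map_add' := fun a b => ?_, map_smul' := fun c a => ?_ }, key⟩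
  · beta_reduce
    rw [key (a + b) (k a + k b) (n a * d ^ (k b) + n b * d ^ (k a)) (by
      push_cast
      rw [← h a, ← h b, pow_add]
      ring), add_smul, mul_smul, mul_smul, pow_smul_z z hz, Nat.add_comm, pow_smul_z z hz]
  · beta_reduce
    rw [key (c • a) (k a) (c * n a) (by
      push_cast
      rw [← h a]
      simp [mul_assoc]), mul_smul, RingHom.id_apply]

end Sd

section kum

variable {R : Type u} [CommRing R] {d : ℕ} (p : Par R d)

/-- constants, on units -/
noncomputable def ku : Rˣ →* (LB p)ˣ := Units.map (kap p : R →* LB p)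

lemma val_ku (r : Rˣ) : ((ku p r : (LB p)ˣ) : LB p) = kap p (r : R) := rfl

lemma kap_injective : Function.Injective (kap p) := by
  intro a b h
  have := congrArg (fun f => cf f 0) h
  beta_reduce at this
  rwa [cf_kap_zero, cf_kap_zero] at this

lemma ku_injective : Function.Injective (ku p) := by
  intro a b h
  exact Units.ext (kap_injective p (congrArg Units.val h))

/-- power series -/
noncomputable def ps : PowerSeries R →+* LB p := HahnSeries.ofPowerSeries ℤ R

/-- the uniformizer as unit -/
noncomputable def pu (n : ℤ) : (LB p)ˣ where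
  val := pw p n
  inv := pw p (-n)
  val_inv := by rw [← pw_add, add_neg_cancel, pw_zero]
  inv_val := by rw [← pw_add, neg_add_cancel, pw_zero]

lemma pu_zpow (n : ℤ) : pu p n = pu p 1 ^ n := by
  have h := single_zpow (R := R) 1 n (pu p 1 : (LaurentSeries R)ˣ) rfl
  rw [mul_one] at h
  exact Units.ext h.symm

lemma ps_C (r : R) : ps p (PowerSeries.C r) = kap p r := HahnSeries.ofPowerSeries_C r

/-- The decomposition of units. -/
theorem exists_unit_eq [IsReduced R] [Nontrivial R] (hconn : ∀ e : R, IsIdempotentElem e → e = 0 ∨ e = 1)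
    (x : (LB p)ˣ) : ∃ (n : ℤ) (v : (PowerSeries R)ˣ), x = pu p n * Units.map (ps p : PowerSeries R →* LB p) v := by
  obtain ⟨⟨n, v⟩, h, -⟩ := Groth.Agent.S15750.result R hconn x
  exact ⟨n, v, Units.ext h⟩

theorem unit_unique [IsReduced R] [Nontrivial R] (hconn : ∀ e : R, IsIdempotentElem e → e = 0 ∨ e = 1)
    (n m : ℤ) (v w : (PowerSeries R)ˣ)
    (h : pu p n * Units.map (ps p : PowerSeries R →* LB p) v = pu p m * Units.map (ps p : PowerSeries R →* LB p) w) :
    n = m ∧ v = w := by
  obtain ⟨q, -, hu⟩ := Groth.Agent.S15750.result R hconn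
    (pu p n * Units.map (ps p : PowerSeries R →* LB p) v : (LB p)ˣ)
  have h1 := hu (n, v) rfl
  have h2 := hu (m, w) (congrArg Units.val h)
  have h3 := h1.trans h2.symm
  exact ⟨congrArg Prod.fst h3, congrArg Prod.snd h3⟩

/-- the generator of the group acting on the units -/
noncomputable def sg : Module.End ℤ (Additive (LB p)ˣ) :=
  (K832.TorSec.ua (Multiplicative.ofAdd (1 : ZMod d)) : Additive (LB p)ˣ →+ Additive (LB p)ˣ).toIntLinearMap

lemma sg_ku (r : Rˣ) : sg p (Additive.ofMul (ku p r)) = Additive.ofMul (ku p r) := by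
  apply addUnits_ext
  exact smul_kap _ _

lemma sg_pu : sg p (Additive.ofMul (pu p 1)) = Additive.ofMul (pu p 1) + Additive.ofMul (ku p p.ζ) := by
  have : NeZero d := ⟨p.pos.ne'⟩
  apply addUnits_ext
  change Multiplicative.ofAdd (1 : ZMod d) • pw p 1 = pw p 1 * kap p p.ζ
  rw [smul_pw, mul_comm]
  congr 2
  unfold chi
  rw [mul_one]
  have h1 : p.ζ ^ (((Multiplicative.toAdd (Multiplicative.ofAdd (1 : ZMod d))).val : ℕ) : ℤ) = p.ζ ^ (1 : ℤ) := by
    apply zpow_eq
    push_cast
    rw [ZMod.natCast_zmod_val, toAdd_ofAdd]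
  rw [h1, zpow_one]

theorem exists_kum [IsReduced R] [HenselianLocalRing R] [IsSepClosed (IsLocalRing.ResidueField R)]
    (hroot : ∀ x : Rˣ, x ^ d = 1 → ∃ i : ℤ, x = p.ζ ^ i) :
    ∃ (V : Type) (_ : AddCommGroup V) (dv : V →ₗ[ℤ] V) (e : V) (j : V →ₗ[ℤ] Additive (LB p)ˣ)
      (π : Additive (LB p)ˣ), K832.CycVan.Kum d (Additive (LB p)ˣ) (sg p) V dv e j π := by
  have hconn : ∀ e : R, IsIdempotentElem e → e = 0 ∨ e = 1 := fun e he => by
    have h1 : e * (1 - e) = 0 := by rw [mul_sub, mul_one, he.eq, sub_self]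
    rcases IsLocalRing.isUnit_or_isUnit_one_sub_self e with h | h
    · right
      exact (sub_eq_zero.1 (h.mul_right_eq_zero.1 h1)).symm
    · left
      exact h.mul_left_eq_zero.1 h1
  choose rt hrt using K832.KumRoots.exists_root (R := R) p.isUnit_d
  -- the compatible roots
  let w' : ℕ → Rˣ := fun k => Nat.rec p.ζ (fun _ x => rt x) k
  have hw'0 : w' 0 = p.ζ := rfl
  have hw's : ∀ k, w' (k + 1) ^ d = w' k := fun k => hrt _
  let w : ℕ → Rˣ := fun k => Nat.rec 1 (fun k _ => w' k) k
  have hw0 : w 0 = 1 := rfl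
  have hw1 : w 1 = p.ζ := rfl
  have hws : ∀ k, w (k + 1) ^ d = w k := by
    intro k
    cases k with
    | zero => exact p.pow_eq
    | succ k => exact hw's k
  let z : ℕ → Additive (LB p)ˣ := fun k => Additive.ofMul (ku p (w k))
  have hz : ∀ k, (d : ℤ) • z (k + 1) = z k := by
    intro k
    change Additive.ofMul (ku p (w (k + 1)) ^ (d : ℤ)) = Additive.ofMul (ku p (w k))
    rw [zpow_natCast, ← map_pow, hws]
  have hz0 : z 0 = 0 := by
    change Additive.ofMul (ku p 1) = 0
    rw [map_one]; rfl
  obtain ⟨j, hj⟩ := exists_j p.pos z hz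
  have hjku : ∀ q, ∃ c : Rˣ, j q = Additive.ofMul (ku p c) := by
    intro q
    obtain ⟨k, n, h⟩ := q.2
    refine ⟨w k ^ n, ?_⟩
    rw [hj q k n h, map_zpow]
    rfl
  have hje : ∀ n : ℤ, j (n • dvS p.pos (eS p.pos)) = Additive.ofMul (ku p (p.ζ ^ n)) := by
    intro n
    have hd0 : (d : ℚ) ≠ 0 := by exact_mod_cast p.pos.ne'
    rw [hj _ 1 n (by
      push_cast
      rw [dvS_coe]
      change n • ((1 : ℚ) / d) * (d : ℚ) ^ 1 = n
      simp
      field_simp), map_zpow]
    rfl
  have hdvd : ∀ (k : ℕ) (m : ℤ), m • z k = 0 → ((d : ℤ) ^ k) ∣ m := by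
    intro k
    induction k with
    | zero => intro m _; simp
    | succ k ih =>
      intro m hm
      have h1 : m • z k = 0 := by rw [← hz k, smul_comm, hm, smul_zero]
      obtain ⟨m', rfl⟩ := ih m h1
      have h2 : ((d : ℤ) ^ k) • z (k + 1) = z 1 := by
        rw [Nat.add_comm]
        exact pow_smul_z z hz 1 k
      rw [mul_comm, mul_smul, h2] at hm
      have h3 : p.ζ ^ m' = 1 := by
        apply ku_injective p
        rw [map_zpow, map_one]
        exact Additive.ofMul.injective hm
      have h4 : (d : ℤ) ∣ m' := by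
        by_contra h5
        have h6 := p.isUnit_sub m' h5
        rw [h3, Units.val_one, sub_self] at h6
        exact not_isUnit_zero h6
      obtain ⟨m'', rfl⟩ := h4
      exact ⟨m'', by rw [pow_succ]; ring⟩
  refine ⟨Sd d p.pos, inferInstance, dvS p.pos, eS p.pos, j, Additive.ofMul (pu p 1), ?_⟩
  have hd0 : (d : ℚ) ≠ 0 := by exact_mod_cast p.pos.ne'
  have hpu : ∀ n : ℤ, n • Additive.ofMul (pu p 1) = Additive.ofMul (pu p n) := by
    intro n
    exact congrArg Additive.ofMul (pu_zpow p n).symm
  refine ⟨?_, ?_, ?_, ?_, ?_, ?_, ?_, ?_, ?_⟩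
  · intro v
    apply Subtype.ext
    push_cast
    rw [dvS_coe]
    simp
    field_simp
  · intro v
    apply Subtype.ext
    rw [dvS_coe]
    push_cast
    simp
    field_simp
  · intro n hn
    have h1 := congrArg (fun q : Sd d p.pos => (q : ℚ)) hn
    change n • (1 : ℚ) = 0 at h1
    simpa using h1
  · intro v hv
    obtain ⟨k, n, h⟩ := v.2
    rw [hj v k n h] at hv
    obtain ⟨m, rfl⟩ := hdvd k n hv
    refine ⟨m, Subtype.ext ?_⟩
    change (v : ℚ) = m • (1 : ℚ)
    push_cast at h
    rw [mul_comm ((d : ℚ) ^ k)] at h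
    have h2 := mul_right_cancel₀ (pow_ne_zero k hd0) h
    rw [h2]
    simp
  · intro v
    obtain ⟨c, hc⟩ := hjku v
    rw [hc, sg_ku]
  · have h1 := hje 1
    rw [one_smul, zpow_one] at h1
    rw [h1, sg_pu]
  · intro v n h
    obtain ⟨c, hc⟩ := hjku v
    rw [hc, hpu] at h
    by_contra hn
    have h1 : kap p (c : R) * pw p n = 1 := congrArg vl h
    have h2 := congrArg (fun f => cf f n) h1
    beta_reduce at h2
    rw [cf_kap_mul, cf_pw, mul_one, cf_one_of_ne hn] at h2
    exact c.ne_zero h2
  · intro x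
    obtain ⟨n, v, hx⟩ := exists_unit_eq p hconn x.toMul
    -- roots of power series
    obtain ⟨s, hs⟩ := K832.KumRoots.exists_root (R := R) p.isUnit_d
      (Units.map (PowerSeries.constantCoeff (R := R) : PowerSeries R →* R) v)
    have hs' : (s : R) ^ d = PowerSeries.constantCoeff (v : PowerSeries R) := congrArg Units.val hs
    let v' : (PowerSeries R)ˣ := v * (Units.map (PowerSeries.C (R := R) : R →* PowerSeries R) s)⁻¹ ^ d
    have hv' : PowerSeries.constantCoeff (v' : PowerSeries R) = 1 := by
      have h1 : (Units.map (PowerSeries.constantCoeff (R := R) : PowerSeries R →* R) v') = 1 := by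
        simp only [v']
        rw [map_mul, map_pow, map_inv, ← hs]
        have h2 : Units.map (PowerSeries.constantCoeff (R := R) : PowerSeries R →* R)
            (Units.map (PowerSeries.C (R := R) : R →* PowerSeries R) s) = s := Units.ext (by simp)
        rw [h2, inv_pow, mul_inv_cancel]
      exact congrArg Units.val h1
    obtain ⟨y, hy, hy1⟩ := K832.KumRoots.exists_root_power (R := R) p.isUnit_d (v' : PowerSeries R) hv'
    have hyu : IsUnit y := by
      rw [PowerSeries.isUnit_iff_constantCoeff, hy1]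
      exact isUnit_one
    have hyv : v = (Units.map (PowerSeries.C (R := R) : R →* PowerSeries R) s * hyu.unit) ^ d := by
      have h1 : hyu.unit ^ d = v' := Units.ext (by simpa using hy)
      rw [mul_pow, h1]
      simp only [v']
      rw [inv_pow, mul_comm v, mul_inv_cancel_left]
    refine ⟨Additive.ofMul (Units.map (ps p : PowerSeries R →* LB p)
      (Units.map (PowerSeries.C (R := R) : R →* PowerSeries R) s * hyu.unit)), 0, n, ?_⟩
    rw [map_zero, zero_add, hpu]
    apply Additive.toMul.injective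
    change x.toMul = (Units.map (ps p : PowerSeries R →* LB p)
      (Units.map (PowerSeries.C (R := R) : R →* PowerSeries R) s * hyu.unit)) ^ (d : ℤ) * pu p n
    rw [hx, zpow_natCast, ← map_pow, ← hyv, mul_comm]
  · intro y v n h
    obtain ⟨m, vy, hy⟩ := exists_unit_eq p hconn y.toMul
    obtain ⟨c, hc⟩ := hjku v
    obtain ⟨c', hc'⟩ := hjku (dvS p.pos v)
    have hcc : c' ^ d = c := by
      have h1 : (d : ℤ) • j (dvS p.pos v) = j v := by
        rw [← map_smul]
        congr 1
        apply Subtype.ext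
        push_cast
        rw [dvS_coe]
        simp
        field_simp
      rw [hc, hc'] at h1
      apply ku_injective p
      rw [map_pow, ← zpow_natCast]
      exact Additive.ofMul.injective h1
    have hC : ∀ r : Rˣ, ku p r = Units.map (ps p : PowerSeries R →* LB p)
        (Units.map (PowerSeries.C (R := R) : R →* PowerSeries R) r) := fun r => Units.ext (ps_C p r).symm
    have h1 : pu p ((d : ℤ) * m) * Units.map (ps p : PowerSeries R →* LB p) (vy ^ d) =
        pu p n * Units.map (ps p : PowerSeries R →* LB p)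
          (Units.map (PowerSeries.C (R := R) : R →* PowerSeries R) c) := by
      have h2 : y.toMul ^ (d : ℤ) = ku p c * pu p n := by
        rw [hc, hpu] at h
        exact congrArg Additive.toMul h
      rw [hy, mul_zpow, zpow_natCast, zpow_natCast, ← map_pow] at h2
      rw [← hC, mul_comm (pu p n), ← h2]
      congr 1
      rw [pu_zpow p m, pu_zpow p (d * m), mul_comm, zpow_mul, zpow_natCast]
    obtain ⟨-, h2⟩ := unit_unique p hconn _ _ _ _ h1
    -- vy is constant
    let v0 : Rˣ := Units.map (PowerSeries.constantCoeff (R := R) : PowerSeries R →* R) vy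
    have h3 : v0 ^ d = c := by
      have h4 := congrArg (Units.map (PowerSeries.constantCoeff (R := R) : PowerSeries R →* R)) h2
      rw [map_pow] at h4
      refine h4.trans (Units.ext (by simp))
    have h4 : vy = Units.map (PowerSeries.C (R := R) : R →* PowerSeries R) v0 := by
      have h5 : vy * (Units.map (PowerSeries.C (R := R) : R →* PowerSeries R) v0)⁻¹ = 1 := by
        apply Units.ext
        apply K832.KumRoots.eq_one_of_pow_power (R := R) p.isUnit_d
        · have h6 : Units.map (PowerSeries.constantCoeff (R := R) : PowerSeries R →* R)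
              (vy * (Units.map (PowerSeries.C (R := R) : R →* PowerSeries R) v0)⁻¹) = 1 := by
            rw [map_mul, map_inv]
            have h7 : Units.map (PowerSeries.constantCoeff (R := R) : PowerSeries R →* R)
              (Units.map (PowerSeries.C (R := R) : R →* PowerSeries R) v0) = v0 := Units.ext (by simp)
            rw [h7, mul_inv_cancel]
          exact congrArg Units.val h6
        · rw [← Units.val_pow_eq_pow_val, mul_pow, h2, inv_pow, ← map_pow, h3, mul_inv_cancel,
            Units.val_one]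
      exact mul_inv_eq_one.1 h5
    obtain ⟨i, hi⟩ := hroot (v0 * c'⁻¹) (by rw [mul_pow, h3, inv_pow, hcc, mul_inv_cancel])
    refine ⟨dvS p.pos v + i • dvS p.pos (eS p.pos), m, ?_⟩
    rw [map_add, hje, hc', hpu]
    apply Additive.toMul.injective
    change y.toMul = ku p c' * ku p (p.ζ ^ i) * pu p m
    rw [hy, h4, ← hC, ← map_mul, ← hi, mul_comm c', inv_mul_cancel_right, mul_comm]

end kum

end K832.LaurKum
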